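import Cfsg.Agent.GLTwoThree.L33.Local
import Mathlib.GroupTheory.GroupAction.Quotient

/-!
# A subgroup of index thirteen in a simple group of order 5616
-/

set_option autoImplicit false
set_option synthInstance.maxSize 4000

namespace CfsgLib.GLTwoThree

open Subgroup
open scoped Pointwise

universe u

theorem central_cases : ∀ x : Mat, (∀ y : Mat, x * y = y * x) → x = 1 ∨ x = z := by decide +kernel

section Generic

variable {G : Type u} [Group G]

theorem zpowers_three {x y : G} (hx : x ^ 3 = 1) (h : y ∈ zpowers x) : y = 1 ∨ y = x ∨ y = x⁻¹ := by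
  obtain ⟨k, rfl⟩ := h
  have hk : x ^ k = x ^ (k % 3) := by
    conv_lhs => rw [← Int.mul_ediv_add_emod k 3, zpow_add, zpow_mul, zpow_ofNat, hx, one_zpow, one_mul]
  simp only
  rw [hk]
  have h0 := Int.emod_nonneg k (by norm_num : (3 : ℤ) ≠ 0)
  have h3 := Int.emod_lt_of_pos k (by norm_num : (0 : ℤ) < 3)
  interval_cases hh : k % 3
  · exact Or.inl (zpow_zero x)
  · exact Or.inr (Or.inl (zpow_one x))
  · right; right
    rw [show ((2 : ℤ)) = 3 + (-1) by norm_num, zpow_add, zpow_ofNat, hx, one_mul, zpow_neg_one]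

/-- The four-group generated by two commuting involutions. -/
def fourGroup {a b : G} (ha : a * a = 1) (hb : b * b = 1) (hab : a * b = b * a) : Subgroup G where
  carrier := {x | x = 1 ∨ x = a ∨ x = b ∨ x = a * b}
  one_mem' := Or.inl rfl
  mul_mem' := by
    have hba : ∀ x, b * (a * x) = a * (b * x) := fun x => by rw [← mul_assoc, ← hab, mul_assoc]
    have haa : ∀ x, a * (a * x) = x := fun x => by rw [← mul_assoc, ha, one_mul]
    have hbb : ∀ x, b * (b * x) = x := fun x => by rw [← mul_assoc, hb, one_mul]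
    rintro _ _ (rfl | rfl | rfl | rfl) (rfl | rfl | rfl | rfl) <;>
      simp [mul_assoc, ha, hb, hba, haa, hbb, hab.symm]
  inv_mem' := by
    have e : (a * b)⁻¹ = a * b := inv_eq_of_mul_eq_one_right (by
      rw [mul_assoc, ← mul_assoc b, ← hab, mul_assoc, hb, mul_one, ha])
    rintro _ (rfl | rfl | rfl | rfl)
    · exact Or.inl inv_one
    · exact Or.inr (Or.inl (inv_eq_self_of_sq ha))
    · exact Or.inr (Or.inr (Or.inl (inv_eq_self_of_sq hb)))
    · exact Or.inr (Or.inr (Or.inr e))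

theorem fourGroup_le {a b : G} (ha : a * a = 1) (hb : b * b = 1) (hab : a * b = b * a)
    {M : Subgroup G} (haM : a ∈ M) (hbM : b ∈ M) : fourGroup ha hb hab ≤ M := by
  rintro _ (rfl | rfl | rfl | rfl)
  · exact M.one_mem
  · exact haM
  · exact hbM
  · exact M.mul_mem haM hbM

theorem card_fourGroup {a b : G} (ha : a * a = 1) (hb : b * b = 1) (hab : a * b = b * a)
    (ha1 : a ≠ 1) (hb1 : b ≠ 1) (hne : a ≠ b) : Nat.card (fourGroup ha hb hab) = 4 := by
  classical
  have e : Nat.card (fourGroup ha hb hab) = ({1, a, b, a * b} : Finset G).card := by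
    rw [← Nat.card_eq_finsetCard]
    exact Nat.card_congr (Equiv.subtypeEquivRight fun x => by
      show (x = 1 ∨ x = a ∨ x = b ∨ x = a * b) ↔ _
      simp)
  rw [e, Finset.card_insert_of_notMem, Finset.card_insert_of_notMem, Finset.card_insert_of_notMem,
    Finset.card_singleton]
  · rw [Finset.mem_singleton]
    exact fun h => ha1 (right_eq_mul.1 h)
  · simp only [Finset.mem_insert, Finset.mem_singleton, not_or]
    exact ⟨hne, fun h => hb1 (left_eq_mul.1 h)⟩
  · simp only [Finset.mem_insert, Finset.mem_singleton, not_or]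
    refine ⟨ha1.symm, hb1.symm, fun h => hne ?_⟩
    rw [← inv_eq_self_of_sq ha]
    exact inv_eq_of_mul_eq_one_right h.symm

theorem four_dvd_card [Finite G] {a b : G} (ha : a * a = 1) (hb : b * b = 1) (hab : a * b = b * a)
    (ha1 : a ≠ 1) (hb1 : b ≠ 1) (hne : a ≠ b) {M : Subgroup G} (haM : a ∈ M) (hbM : b ∈ M) :
    4 ∣ Nat.card M := by
  have := Subgroup.card_dvd_of_le (fourGroup_le ha hb hab haM hbM)
  rwa [card_fourGroup ha hb hab ha1 hb1 hne] at this

/-- A fixed point free involutory automorphism of a finite subgroup inverts it. -/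
theorem inverts_of_fixed_point_free [Finite G] {P : Subgroup G} {i : G} (hi : i * i = 1)
    (hn : ∀ x ∈ P, i * x * i⁻¹ ∈ P) (hfix : ∀ x ∈ P, x * i = i * x → x = 1) :
    ∀ x ∈ P, i * x * i⁻¹ = x⁻¹ := by
  intro x hx
  let f : P → P := fun y => ⟨(y : G)⁻¹ * (i * y * i⁻¹), P.mul_mem (P.inv_mem y.2) (hn y y.2)⟩
  have hf : Function.Injective f := by
    intro y w h
    have h' : (y : G)⁻¹ * (i * y * i⁻¹) = (w : G)⁻¹ * (i * w * i⁻¹) := congrArg Subtype.val h
    have hc : (w : G) * (y : G)⁻¹ * i = i * ((w : G) * (y : G)⁻¹) := by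
      calc (w : G) * (y : G)⁻¹ * i
          = (w : G) * ((y : G)⁻¹ * (i * y * i⁻¹)) * (i * (y : G)⁻¹) := by group
        _ = (w : G) * ((w : G)⁻¹ * (i * w * i⁻¹)) * (i * (y : G)⁻¹) := by rw [h']
        _ = i * ((w : G) * (y : G)⁻¹) := by group
    exact (Subtype.ext (mul_inv_eq_one.1 (hfix _ (P.mul_mem w.2 (P.inv_mem y.2)) hc))).symm
  obtain ⟨y, hy⟩ := Finite.surjective_of_injective hf ⟨x, hx⟩
  have hy' : (y : G)⁻¹ * (i * y * i⁻¹) = x := congrArg Subtype.val hy
  have hi' := inv_eq_self_of_sq hi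
  rw [← hy', hi']
  calc i * ((y : G)⁻¹ * (i * y * i)) * i = i * (y : G)⁻¹ * i * y * (i * i) := by group
    _ = i * (y : G)⁻¹ * i⁻¹ * y := by rw [hi, mul_one, hi']
    _ = ((y : G)⁻¹ * (i * y * i⁻¹))⁻¹ := by group
    _ = ((y : G)⁻¹ * (i * y * i))⁻¹ := by rw [hi']

theorem card_dvd_factorial_index [Finite G] [IsSimpleGroup G] {H : Subgroup G} (h : H ≠ ⊤) :
    Nat.card G ∣ (H.index).factorial := by
  have hinj : Function.Injective (MulAction.toPermHom G (G ⧸ H)) := by
    rw [← MonoidHom.ker_eq_bot_iff, ← normalCore_eq_ker]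
    exact (IsSimpleGroup.eq_bot_or_eq_top_of_normal H.normalCore inferInstance).resolve_right
      fun e => h (top_unique (e ▸ normalCore_le H))
  have := Subgroup.card_dvd_of_injective _ hinj
  rwa [Nat.card_perm, ← index_eq_card] at this

theorem mem_normalizer_of_conj_le [Finite G] {H : Subgroup G} {g : G} (h : ∀ x ∈ H, g * x * g⁻¹ ∈ H) :
    g ∈ normalizer (H : Set G) := by
  have e : H.map (MulAut.conj g).toMonoidHom = H := by
    refine eq_of_le_of_card_ge ?_ (le_of_eq (card_map_of_injective (MulAut.conj g).injective).symm)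
    rintro _ ⟨x, hx, rfl⟩
    exact h x hx
  rw [mem_normalizer_iff]
  refine fun x => ⟨h x, fun hx => ?_⟩
  rw [← e, mem_map_equiv, MulAut.conj_symm_apply] at hx
  convert hx using 1
  group

end Generic

variable {G : Type u} [Group G] [Fintype G] [DecidableEq G] [IsSimpleGroup G] {t : G}
  (φ : Subgroup.centralizer ({t} : Set G) ≃* Mat) (ht : orderOf t = 2) (hG : Nat.card G = 5616)

/-- The image of the transvection. -/
abbrev uT : G := ((φ.symm uThree : Subgroup.centralizer ({t} : Set G)) : G)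

/-- The 3-part of the centralizer of the transvection and a reflection fixing a point in it. -/
structure Frame where
  P : Subgroup G
  r : G
  v : G
  card_P : Nat.card P = 27
  P_le : P ≤ cen (uT φ)
  mem_P : ∀ x, x ∈ cen (uT φ) → x ^ 27 = 1 → x ∈ P
  rr : r * r = 1
  r_ne : r ≠ 1
  rt : r * t = t * r
  r_ne_t : r ≠ t
  ru : r * uT φ * r⁻¹ = (uT φ)⁻¹
  vP : v ∈ P
  v_ne : v ≠ 1
  vr : v * r = r * v

include φ ht

omit [IsSimpleGroup G] in
theorem t_facts : t * t = 1 ∧ t ≠ 1 ∧ φ ⟨t, mem_cen.2 rfl⟩ = z := by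
  have htt : t * t = 1 := by rw [← sq, ← ht, pow_orderOf_eq_one]
  have ht1 : t ≠ 1 := fun e => by rw [e, orderOf_one] at ht; norm_num at ht
  refine ⟨htt, ht1, (central_cases _ fun y => ?_).resolve_left fun e => ?_⟩
  · obtain ⟨c, rfl⟩ := φ.surjective y
    rw [← map_mul, ← map_mul]
    exact congrArg φ (Subtype.ext (mem_cen.1 c.2).symm)
  · rw [← map_one φ] at e
    exact ht1 (congrArg Subtype.val (φ.injective e))

/-- Only `1` and `t` are 2-elements commuting with `t` and the transvection. -/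
theorem two_elt_cases {x : G} (hxt : x * t = t * x) (hxu : x * uT φ = uT φ * x) (hx : x ^ 16 = 1) :
    x = 1 ∨ x = t := by
  rcases two_elt_of_cent_three (φ ⟨x, mem_cen.2 hxt⟩) (by
      rw [← φ.apply_symm_apply uThree, ← map_mul, ← map_mul]
      exact congrArg φ (Subtype.ext hxu)) (by
      rw [← map_pow, ← map_one φ]; exact congrArg φ (Subtype.ext hx)) with h | h
  · rw [← map_one φ] at h
    exact Or.inl (congrArg Subtype.val (φ.injective h))
  · rw [← (t_facts φ ht).2.2] at h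
    exact Or.inr (congrArg Subtype.val (φ.injective h))

include hG

/-- A subgroup of order 27 meets an involution centralizer in at most three elements. -/
theorem card_inf_cen {P : Subgroup G} (hP : Nat.card P = 27) {i : G} (hi : i * i = 1) (hi1 : i ≠ 1) :
    Nat.card ↥(P ⊓ cen i) ∣ 3 := by
  obtain ⟨ψ⟩ := exists_equiv φ ht hi hi1
  have h1 := Subgroup.card_dvd_of_le (inf_le_left : P ⊓ cen i ≤ P)
  have h2 := Subgroup.card_dvd_of_le (inf_le_right : P ⊓ cen i ≤ cen i)
  rw [hP] at h1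
  rw [Nat.card_congr ψ.toEquiv, card_mat] at h2
  have := Nat.dvd_gcd h1 h2
  norm_num at this
  exact this

theorem inf_cen_eq {P : Subgroup G} (hP : Nat.card P = 27) {i x : G} (hi : i * i = 1) (hi1 : i ≠ 1)
    (hxP : x ∈ P) (hxi : x * i = i * x) (hx : x ^ 3 = 1) (hx1 : x ≠ 1) :
    P ⊓ cen i = zpowers x := by
  haveI : Fact (Nat.Prime 3) := ⟨Nat.prime_three⟩
  refine (eq_of_le_of_card_ge (zpowers_le.2 (mem_inf.2 ⟨hxP, mem_cen.2 hxi⟩)) ?_).symm
  rw [Nat.card_zpowers, orderOf_eq_prime hx hx1]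
  exact Nat.le_of_dvd (by norm_num) (card_inf_cen φ ht hG hP hi hi1)

theorem exists_frame : Nonempty (Frame φ) := by
  haveI : Fact (Nat.Prime 3) := ⟨Nat.prime_three⟩
  obtain ⟨htt, ht1, hz⟩ := t_facts φ ht
  obtain ⟨hu3, hu1⟩ := uT_facts φ
  have hc : Nat.card (cen (uT φ)) = 54 := card_cen_uT φ ht hG
  obtain ⟨P0, hP0⟩ := Sylow.exists_subgroup_card_pow_prime 3 (n := 3) (G := cen (uT φ))
    (by rw [hc]; norm_num)
  have hidx : P0.index = 2 := by
    have := P0.card_mul_index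
    rw [hP0, hc] at this
    omega
  set P := P0.map (cen (uT φ)).subtype with hP
  have hcard : Nat.card P = 27 := by
    rw [hP, card_map_of_injective (subtype_injective _), hP0]; norm_num
  have hle : P ≤ cen (uT φ) := map_subtype_le P0
  have hmem : ∀ x, x ∈ cen (uT φ) → x ^ 27 = 1 → x ∈ P := by
    intro x hx h27
    refine ⟨⟨x, hx⟩, ?_, rfl⟩
    have h2 : (⟨x, hx⟩ : cen (uT φ)) * ⟨x, hx⟩ ∈ P0 := mul_self_mem_of_index_two hidx _
    have h := P0.pow_mem h2 14
    rw [← sq, ← pow_mul, show 2 * 14 = 27 + 1 by norm_num, pow_succ] at h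
    rwa [show (⟨x, hx⟩ : cen (uT φ)) ^ 27 = 1 from Subtype.ext h27, one_mul] at h
  set r0 : G := ((φ.symm refl : Subgroup.centralizer ({t} : Set G)) : G) with hr0
  obtain ⟨f1, f2, f3, f4, f5, -, -, f8⟩ := refl_facts
  have hmap : ∀ {X Y : Mat}, X = Y → ((φ.symm X : Subgroup.centralizer ({t} : Set G)) : G)
      = ((φ.symm Y : Subgroup.centralizer ({t} : Set G)) : G) := fun h => by rw [h]
  have htz : φ.symm z = ⟨t, mem_cen.2 rfl⟩ := φ.symm_apply_eq.2 hz.symm
  have hr0t : r0 * t = t * r0 := mem_cen.1 (SetLike.coe_mem _)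
  have hr0r0 : r0 * r0 = 1 := by
    have := hmap f1; rwa [map_mul, map_one, coe_mul, coe_one] at this
  have hr0u : r0 * uT φ * r0⁻¹ = (uT φ)⁻¹ := by
    have := hmap f2
    rwa [map_mul, map_mul, map_inv, map_inv, coe_mul, coe_mul, coe_inv, coe_inv] at this
  have hinj : ∀ {X : Mat}, ((φ.symm X : Subgroup.centralizer ({t} : Set G)) : G) = 1 → X = 1 :=
    fun h => (map_eq_one_iff φ.symm φ.symm.injective).1 (Subtype.ext h)
  have hr01 : r0 ≠ 1 := fun e => f3 (hinj e)
  have hr0net : r0 * t ≠ 1 := fun e => f4 (hinj (by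
    rw [map_mul, htz, coe_mul]; exact e))
  set r1 : G := r0 * t with hr1
  have hr1r1 : r1 * r1 = 1 := by
    rw [hr1, mul_assoc, ← mul_assoc t r0 t, ← hr0t, mul_assoc r0 t t, htt, mul_one, hr0r0]
  have hr1t : r1 * t = t * r1 := by rw [hr1, ← mul_assoc, ← hr0t]
  have htu : t * uT φ = uT φ * t := (mem_cen.1 (uT_mem φ ht)).symm
  have hr1u : r1 * uT φ * r1⁻¹ = (uT φ)⁻¹ := by
    rw [hr1, ← hr0u]
    calc r0 * t * uT φ * (r0 * t)⁻¹ = r0 * (t * uT φ) * t⁻¹ * r0⁻¹ := by group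
      _ = r0 * uT φ * r0⁻¹ := by rw [htu]; group
  have hne : ∀ r : G, r * uT φ * r⁻¹ = (uT φ)⁻¹ → r ≠ t := by
    rintro r h rfl
    rw [htu, mul_inv_cancel_right] at h
    exact ne_inv_of_cube hu3 hu1 h
  have hnorm : ∀ r : G, r * uT φ * r⁻¹ = (uT φ)⁻¹ → ∀ x ∈ P, r * x * r⁻¹ ∈ P := by
    intro r hr x hx
    refine hmem _ (mem_cen.2 ?_) ?_
    · have h1 : x * (uT φ)⁻¹ = (uT φ)⁻¹ * x :=
        (show Commute x (uT φ) from mem_cen.1 (hle hx)).inv_right.eq
      have hr' : r * (uT φ)⁻¹ * r⁻¹ = uT φ := by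
        rw [show r * (uT φ)⁻¹ * r⁻¹ = (r * uT φ * r⁻¹)⁻¹ by group, hr, inv_inv]
      calc r * x * r⁻¹ * uT φ = r * x * r⁻¹ * (r * (uT φ)⁻¹ * r⁻¹) := by rw [hr']
        _ = r * (x * (uT φ)⁻¹) * r⁻¹ := by group
        _ = r * ((uT φ)⁻¹ * x) * r⁻¹ := by rw [h1]
        _ = r * (uT φ)⁻¹ * r⁻¹ * (r * x * r⁻¹) := by group
        _ = uT φ * (r * x * r⁻¹) := by rw [hr']
    · rw [conj_pow]
      have : x ^ 27 = 1 := by
        have := pow_card_eq_one' (x := (⟨x, hx⟩ : P))
        rw [hcard] at this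
        exact congrArg Subtype.val this
      rw [this, mul_one, mul_inv_cancel]
  by_cases hfix : ∃ v ∈ P, v * r0 = r0 * v ∧ v ≠ 1
  · obtain ⟨v, hv, hvr, hv1⟩ := hfix
    exact ⟨⟨P, r0, v, hcard, hle, hmem, hr0r0, hr01, hr0t, hne _ hr0u, hr0u, hv, hv1, hvr⟩⟩
  by_cases hfix1 : ∃ v ∈ P, v * r1 = r1 * v ∧ v ≠ 1
  · obtain ⟨v, hv, hvr, hv1⟩ := hfix1
    exact ⟨⟨P, r1, v, hcard, hle, hmem, hr1r1, hr0net, hr1t, hne _ hr1u, hr1u, hv, hv1, hvr⟩⟩
  push Not at hfix hfix1
  have i0 := inverts_of_fixed_point_free hr0r0 (hnorm _ hr0u) hfix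
  have i1 := inverts_of_fixed_point_free hr1r1 (hnorm _ hr1u) hfix1
  have hPt : P ≤ P ⊓ cen t := by
    intro x hx
    refine mem_inf.2 ⟨hx, mem_cen.2 ?_⟩
    have e : r0 * r1 = t := by rw [hr1, ← mul_assoc, hr0r0, one_mul]
    have h : t * x * t⁻¹ = x := by
      rw [← e]
      calc r0 * r1 * x * (r0 * r1)⁻¹ = r0 * (r1 * x * r1⁻¹) * r0⁻¹ := by group
        _ = (r0 * x * r0⁻¹)⁻¹ := by rw [i1 x hx]; group
        _ = x := by rw [i0 x hx, inv_inv]
    calc x * t = t * x * t⁻¹ * t := by rw [h]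
      _ = t * x := by group
  have h1 := Subgroup.card_dvd_of_le hPt
  have h2 := card_inf_cen φ ht hG hcard htt ht1
  rw [hcard] at h1
  exact absurd (h1.trans h2) (by norm_num)

variable (F : Frame φ)

include F

theorem frame_basic : uT φ ∈ F.P ∧ F.P ⊓ cen t = zpowers (uT φ) ∧ F.v ^ 3 = 1 ∧
    F.P ⊓ cen F.r = zpowers F.v ∧ Nat.card (cen F.v) = 54 ∧ F.v ∉ zpowers (uT φ) ∧
    (∀ x ∈ F.P, x ^ 27 = 1) := by
  obtain ⟨htt, ht1, -⟩ := t_facts φ ht
  obtain ⟨hu3, hu1⟩ := uT_facts φ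
  have hp : ∀ x ∈ F.P, x ^ 27 = 1 := fun x hx => by
    have := pow_card_eq_one' (x := (⟨x, hx⟩ : F.P))
    rw [F.card_P] at this
    exact congrArg Subtype.val this
  have hu : uT φ ∈ F.P := F.mem_P _ (mem_cen.2 rfl) (by
    rw [show (27 : ℕ) = 3 * 9 by norm_num, pow_mul, hu3, one_pow])
  have hconj := isConj_uT φ ht F.rr F.r_ne (hp _ F.vP) F.v_ne F.vr
  have hv3 : F.v ^ 3 = 1 := by
    obtain ⟨g, hg⟩ := isConj_iff.1 hconj
    rw [← hg, conj_pow] at hu3
    exact conj_eq_one_iff.1 hu3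
  refine ⟨hu, inf_cen_eq φ ht hG F.card_P htt ht1 hu (mem_cen.1 (uT_mem φ ht)) hu3 hu1, hv3,
    inf_cen_eq φ ht hG F.card_P F.rr F.r_ne F.vP F.vr hv3 F.v_ne, ?_, ?_, hp⟩
  · rw [card_cen_of_isConj hconj]
    exact card_cen_uT φ ht hG
  · intro h
    rcases zpowers_three hu3 h with e | e | e
    · exact F.v_ne e
    all_goals
      have hvr := F.vr
      rw [e] at hvr
      have h := F.ru
    · rw [← hvr, mul_inv_cancel_right] at h
      exact ne_inv_of_cube hu3 hu1 h
    · have hc : Commute (uT φ) F.r := by simpa using (show Commute (uT φ)⁻¹ F.r from hvr).inv_left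
      rw [← hc.eq, mul_inv_cancel_right] at h
      exact ne_inv_of_cube hu3 hu1 h

theorem frame_normalizes {g : G} (hg : g * uT φ * g⁻¹ = uT φ ∨ g * uT φ * g⁻¹ = (uT φ)⁻¹) :
    g ∈ normalizer (F.P : Set G) := by
  refine mem_normalizer_of_conj_le fun x hx => F.mem_P _ (mem_cen.2 ?_) ?_
  · have hu : (show Commute x (uT φ) from mem_cen.1 (F.P_le hx)).eq = mem_cen.1 (F.P_le hx) := rfl
    have h2 : g * x * g⁻¹ * (g * uT φ * g⁻¹) = g * uT φ * g⁻¹ * (g * x * g⁻¹) := by
      calc g * x * g⁻¹ * (g * uT φ * g⁻¹) = g * (x * uT φ) * g⁻¹ := by group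
        _ = g * (uT φ * x) * g⁻¹ := by rw [mem_cen.1 (F.P_le hx)]
        _ = g * uT φ * g⁻¹ * (g * x * g⁻¹) := by group
    rcases hg with e | e <;> rw [e] at h2
    · exact h2
    · simpa only [inv_inv] using (show Commute (g * x * g⁻¹) (uT φ)⁻¹ from h2).inv_right.eq
  · rw [conj_pow, (frame_basic φ ht hG F).2.2.2.2.2.2 x hx, mul_one, mul_inv_cancel]

theorem frame_conj_mem {g : G} (hg : g * uT φ * g⁻¹ = uT φ ∨ g * uT φ * g⁻¹ = (uT φ)⁻¹)
    {x : G} (hx : x ∈ F.P) : g * x * g⁻¹ ∈ F.P :=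
  (mem_normalizer_iff.1 (frame_normalizes φ ht hG F hg) x).1 hx

theorem t_inverts_v : t * F.v * t⁻¹ = F.v⁻¹ := by
  obtain ⟨hu, hPt, hv3, hPr, -, hvu, -⟩ := frame_basic φ ht hG F
  have htu : t * uT φ * t⁻¹ = uT φ := by
    rw [← mem_cen.1 (uT_mem φ ht), mul_inv_cancel_right]
  have hm : t * F.v * t⁻¹ ∈ zpowers F.v := by
    rw [← hPr]
    refine mem_inf.2 ⟨frame_conj_mem φ ht hG F (Or.inl htu) F.vP, mem_cen.2 ?_⟩
    have h2 : t⁻¹ * F.r = F.r * t⁻¹ := (show Commute t F.r from F.rt.symm).inv_left.eq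
    calc t * F.v * t⁻¹ * F.r = t * F.v * (t⁻¹ * F.r) := by group
      _ = t * (F.v * F.r) * t⁻¹ := by rw [h2]; group
      _ = t * (F.r * F.v) * t⁻¹ := by rw [F.vr]
      _ = (t * F.r) * F.v * t⁻¹ := by group
      _ = F.r * (t * F.v * t⁻¹) := by rw [← F.rt]; group
  rcases zpowers_three hv3 hm with e | e | e
  · exact absurd (conj_eq_one_iff.1 e) F.v_ne
  · refine absurd ?_ hvu
    rw [← hPt]
    refine mem_inf.2 ⟨F.vP, mem_cen.2 ?_⟩
    calc F.v * t = t * F.v * t⁻¹ * t := by rw [e]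
      _ = t * F.v := by group
  · exact e

/-- The 3-part of the centralizer is not abelian. -/
theorem not_le_cen_v : ¬ F.P ≤ cen F.v := by
  intro hle
  haveI : Fact (Nat.Prime 2) := ⟨Nat.prime_two⟩
  haveI : Fact (Nat.Prime 3) := ⟨Nat.prime_three⟩
  obtain ⟨htt, ht1, -⟩ := t_facts φ ht
  obtain ⟨hu3, hu1⟩ := uT_facts φ
  obtain ⟨hu, hPt, hv3, hPr, hcv, hvu, hp⟩ := frame_basic φ ht hG F
  obtain ⟨g, hg⟩ := isConj_iff.1 (isConj_uT φ ht F.rr F.r_ne (hp _ F.vP) F.v_ne F.vr).symm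
  -- `g` normalizes `P`, the only subgroup of order 27 of either centralizer
  have hgN : g ∈ normalizer (F.P : Set G) := by
    have hinv : g⁻¹ ∈ normalizer (F.P : Set G) := mem_normalizer_of_conj_le fun x hx => by
      refine F.mem_P _ (mem_cen.2 ?_) (by rw [conj_pow, hp x hx, mul_one, mul_inv_cancel])
      have hxv : x * F.v = F.v * x := mem_cen.1 (hle hx)
      rw [← hg] at hxv
      calc g⁻¹ * x * g⁻¹⁻¹ * uT φ = g⁻¹ * (x * (g * uT φ * g⁻¹)) * g := by group
        _ = g⁻¹ * (g * uT φ * g⁻¹ * x) * g := by rw [hxv]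
        _ = uT φ * (g⁻¹ * x * g⁻¹⁻¹) := by group
    simpa using Subgroup.inv_mem _ hinv
  set N := normalizer (F.P : Set G) with hN
  have htu : t * uT φ * t⁻¹ = uT φ := by
    rw [← mem_cen.1 (uT_mem φ ht), mul_inv_cancel_right]
  have htN : t ∈ N := frame_normalizes φ ht hG F (Or.inl htu)
  have hrN : F.r ∈ N := frame_normalizes φ ht hG F (Or.inr F.ru)
  have h108 : ∀ M : Subgroup G, F.P ≤ M → t ∈ M → F.r ∈ M → 108 ∣ Nat.card M := by
    intro M hM htM hrM
    have h27 := F.card_P ▸ Subgroup.card_dvd_of_le hM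
    have h4 := four_dvd_card htt F.rr F.rt.symm ht1 F.r_ne F.r_ne_t.symm htM hrM
    exact Nat.Coprime.mul_dvd_of_dvd_of_dvd (by norm_num : Nat.Coprime 4 27) h4 h27
  obtain ⟨m, hm⟩ := h108 N le_normalizer htN hrN
  have hmul := N.index_mul_card
  rw [hG, hm] at hmul
  let Q : Sylow 3 G := Sylow.ofCard F.P (by
    rw [F.card_P, hG, show (5616 : ℕ) = 3 ^ 3 * 208 by norm_num,
      Nat.factorization_mul (by norm_num) (by norm_num), Finsupp.add_apply,
      Nat.Prime.factorization_pow (by norm_num),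
      Nat.factorization_eq_zero_of_not_dvd (show ¬ 3 ∣ 208 by norm_num), Finsupp.single_eq_same]
    norm_num)
  have hmod := card_sylow_modEq_one 3 G
  rw [Q.card_eq_index_normalizer] at hmod
  change N.index ≡ 1 [MOD 3] at hmod
  have hi52 : N.index ∣ 52 := ⟨m, by nlinarith⟩
  have hmem : N.index ∈ Nat.divisors 52 := Nat.mem_divisors.2 ⟨hi52, by norm_num⟩
  rw [show Nat.divisors 52 = {1, 2, 4, 13, 26, 52} by decide] at hmem
  simp only [Finset.mem_insert, Finset.mem_singleton] at hmem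
  have hidx : N.index = 13 := by
    rcases hmem with e | e | e | e | e | e
    · exfalso
      have htop : N = ⊤ := index_eq_one.1 e
      have hn : F.P.Normal := normalizer_eq_top_iff.1 (hN ▸ htop)
      rcases IsSimpleGroup.eq_bot_or_eq_top_of_normal F.P hn with h | h
      · have := F.card_P; rw [h, card_bot] at this; norm_num at this
      · have := F.card_P; rw [h, card_top, hG] at this; norm_num at this
    · rw [e] at hmod; norm_num [Nat.ModEq] at hmod
    · exfalso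
      have := card_dvd_factorial_index (H := N) fun h => by rw [h, index_top] at e; norm_num at e
      rw [hG, e] at this
      norm_num [Nat.factorial] at this
    · exact e
    · rw [e] at hmod; norm_num [Nat.ModEq] at hmod
    · exfalso
      rw [e] at hmul
      -- then the normalizer preserves the group of the transvection
      have hNu : N ≤ normalizer ((zpowers (uT φ) : Subgroup G) : Set G) := by
        have hinf : N ⊓ normalizer ((zpowers (uT φ) : Subgroup G) : Set G) = N := by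
          refine eq_of_le_of_card_ge inf_le_left ?_
          have hz : ∀ a : G, (a * uT φ * a⁻¹ = uT φ ∨ a * uT φ * a⁻¹ = (uT φ)⁻¹) →
              a ∈ normalizer ((zpowers (uT φ) : Subgroup G) : Set G) := fun a ha =>
            mem_normalizer_of_conj_le fun x hx => by
              rcases zpowers_three hu3 hx with rfl | rfl | rfl
              · simp
              · rcases ha with h | h <;> rw [h]
                · exact mem_zpowers _
                · exact inv_mem (mem_zpowers _)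
              · rw [← conj_inv]
                rcases ha with h | h <;> rw [h]
                · exact inv_mem (mem_zpowers _)
                · exact inv_mem (inv_mem (mem_zpowers _))
          have := h108 (N ⊓ normalizer ((zpowers (uT φ) : Subgroup G) : Set G))
            (le_inf le_normalizer fun x hx => hz x (Or.inl (by
              rw [mem_cen.1 (F.P_le hx), mul_inv_cancel_right])))
            (mem_inf.2 ⟨htN, hz t (Or.inl htu)⟩) (mem_inf.2 ⟨hrN, hz F.r (Or.inr F.ru)⟩)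
          have := Nat.le_of_dvd Nat.card_pos this
          omega
        exact hinf ▸ inf_le_right
      exact hvu (hg ▸ (mem_normalizer_iff.1 (hNu hgN) _).1 (mem_zpowers _))
  have hN432 : Nat.card N = 432 := by
    rw [hidx] at hmul; omega
  -- a Sylow 2-subgroup of the normalizer containing the four-group
  set V := fourGroup htt F.rr F.rt.symm with hV
  have hVN : V ≤ N := fourGroup_le _ _ _ htN hrN
  have hV2 : IsPGroup 2 (V.subgroupOf N) := IsPGroup.of_card (n := 2) (by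
    rw [Nat.card_congr (subgroupOfEquivOfLe hVN).toEquiv, hV,
      card_fourGroup htt F.rr F.rt.symm ht1 F.r_ne F.r_ne_t.symm]
    norm_num)
  obtain ⟨S0, hS0⟩ := hV2.exists_le_sylow
  have hS16 : Nat.card (S0 : Subgroup N) = 16 := by
    rw [S0.card_eq_multiplicity, hN432, show (432 : ℕ) = 2 ^ 4 * 27 by norm_num,
      Nat.factorization_mul (by norm_num) (by norm_num), Finsupp.add_apply,
      Nat.Prime.factorization_pow (by norm_num),
      Nat.factorization_eq_zero_of_not_dvd (show ¬ 2 ∣ 27 by norm_num), Finsupp.single_eq_same]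
    norm_num
  haveI : Nontrivial (S0 : Subgroup N) := Finite.one_lt_card_iff_nontrivial.1 (by rw [hS16]; norm_num)
  obtain ⟨i0, hi0⟩ := exists_prime_orderOf_dvd_card' 2
    (show 2 ∣ Nat.card (center (S0 : Subgroup N)) by
      obtain ⟨n, hn, e⟩ := (S0.isPGroup'.to_subgroup (center (S0 : Subgroup N))).nontrivial_iff_card.1
        S0.isPGroup'.center_nontrivial
      rw [e]; exact dvd_pow_self 2 hn.ne')
  rw [← Subgroup.orderOf_coe, ← Subgroup.orderOf_coe, ← Subgroup.orderOf_coe] at hi0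
  set S := (S0 : Subgroup N).map N.subtype with hS
  set i := (((i0 : (S0 : Subgroup N)) : N) : G) with hi
  have hScard : Nat.card S = 16 := by rw [hS, card_map_of_injective (subtype_injective _), hS16]
  have hiS : i ∈ S := ⟨_, SetLike.coe_mem _, rfl⟩
  have hcomm : ∀ s ∈ S, s * i * s⁻¹ = i := by
    rintro _ ⟨s, hs, rfl⟩
    have h := congrArg (fun q : (S0 : Subgroup N) => ((q : N) : G)) (mem_center_iff.1 i0.2 ⟨s, hs⟩)
    simp only [coe_mul] at h
    show (s : G) * i * (s : G)⁻¹ = i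
    rw [h, mul_inv_cancel_right]
  have hi2 : i * i = 1 := by rw [← sq, ← hi0, pow_orderOf_eq_one]
  have hi1 : i ≠ 1 := fun e => by rw [e, orderOf_one] at hi0; norm_num at hi0
  have hSN : S ≤ N := map_subtype_le _
  have htS : t ∈ S := ⟨⟨t, htN⟩, hS0 (mem_subgroupOf.2 (Or.inr (Or.inl rfl))), rfl⟩
  have hrS : F.r ∈ S := ⟨⟨F.r, hrN⟩, hS0 (mem_subgroupOf.2 (Or.inr (Or.inr (Or.inl rfl)))), rfl⟩
  have hNP : ∀ a ∈ N, ∀ x ∈ F.P, a * x * a⁻¹ ∈ F.P := fun a ha x hx => (mem_normalizer_iff.1 ha x).1 hx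
  have hfix : ∀ x ∈ F.P, x * i = i * x → x = 1 := by
    intro w hw hwi
    by_contra hw1
    have hw3 : w ^ 3 = 1 := by
      obtain ⟨c, hc⟩ := isConj_iff.1 (isConj_uT φ ht hi2 hi1 (hp w hw) hw1 hwi)
      have := hu3
      rw [← hc, conj_pow] at this
      exact conj_eq_one_iff.1 this
    have hPi := inf_cen_eq φ ht hG F.card_P hi2 hi1 hw hwi hw3 hw1
    have h4 := exists_fixing_eight (w := w) (i := i) hScard fun s hs => by
      have hm : s * w * s⁻¹ ∈ zpowers w := by
        rw [← hPi]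
        refine mem_inf.2 ⟨hNP s (hSN hs) w hw, mem_cen.2 ?_⟩
        conv_lhs => rw [← hcomm s hs]
        conv_rhs => rw [← hcomm s hs]
        calc s * w * s⁻¹ * (s * i * s⁻¹) = s * (w * i) * s⁻¹ := by group
          _ = s * (i * w) * s⁻¹ := by rw [hwi]
          _ = s * i * s⁻¹ * (s * w * s⁻¹) := by group
      refine ⟨hcomm s hs, ?_⟩
      rcases zpowers_three hw3 hm with e | e | e
      · exact absurd (conj_eq_one_iff.1 e) hw1
      · exact Or.inl e
      · exact Or.inr e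
    have h54 := (h4.trans (Subgroup.card_dvd_of_le inf_le_right)).trans
      (card_cen_three_dvd φ ht hG hw3 hw1)
    norm_num at h54
  have hinv := inverts_of_fixed_point_free hi2 (hNP i (hSN hiS)) hfix
  have hit : i * t = t * i := by
    have := hcomm t htS
    calc i * t = t * i * t⁻¹ * t := by rw [this]
      _ = t * i := by group
  have hir : i * F.r = F.r * i := by
    have := hcomm F.r hrS
    calc i * F.r = F.r * i * F.r⁻¹ * F.r := by rw [this]
      _ = F.r * i := by group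
  have hirt : i * F.r = t := by
    refine (two_elt_cases φ ht (x := i * F.r) ?_ ?_ ?_).resolve_left fun e => ?_
    · rw [mul_assoc, F.rt, ← mul_assoc, hit, mul_assoc]
    · have h1 : i * F.r * uT φ * (i * F.r)⁻¹ = uT φ := by
        calc i * F.r * uT φ * (i * F.r)⁻¹ = i * (F.r * uT φ * F.r⁻¹) * i⁻¹ := by group
          _ = (i * uT φ * i⁻¹)⁻¹ := by rw [F.ru]; group
          _ = uT φ := by rw [hinv _ hu, inv_inv]
      calc i * F.r * uT φ = i * F.r * uT φ * (i * F.r)⁻¹ * (i * F.r) := by group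
        _ = uT φ * (i * F.r) := by rw [h1]
    · have : (i * F.r) ^ 2 = 1 := by
        rw [sq, mul_assoc, ← mul_assoc F.r, ← hir, mul_assoc i F.r F.r, F.rr, mul_one, hi2]
      rw [show (16 : ℕ) = 2 * 8 by norm_num, pow_mul, this, one_pow]
    · have e' : i = F.r := by
        rw [← inv_eq_self_of_sq F.rr]
        exact eq_inv_of_mul_eq_one_left e
      have h2 := hinv _ F.vP
      rw [e', ← F.vr, mul_inv_cancel_right] at h2
      exact ne_inv_of_cube hv3 F.v_ne h2
  -- the reflection centralizes every element inverted by `t`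
  let f : F.P → ↥(F.P ⊓ cen F.r) := fun x => ⟨(x : G)⁻¹ * (t * x * t⁻¹), by
    have hyP : (x : G)⁻¹ * (t * x * t⁻¹) ∈ F.P := F.P.mul_mem (F.P.inv_mem x.2) (hNP t htN x x.2)
    refine mem_inf.2 ⟨hyP, mem_cen.2 ?_⟩
    set y := (x : G)⁻¹ * (t * x * t⁻¹) with hy
    have hty : t * y * t⁻¹ = y⁻¹ := by
      rw [hy, inv_eq_self_of_sq htt]
      calc t * ((x : G)⁻¹ * (t * x * t)) * t = t * (x : G)⁻¹ * t * x * (t * t) := by group
        _ = t * (x : G)⁻¹ * t⁻¹ * x := by rw [htt, mul_one, inv_eq_self_of_sq htt]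
        _ = ((x : G)⁻¹ * (t * x * t⁻¹))⁻¹ := by group
        _ = ((x : G)⁻¹ * (t * x * t))⁻¹ := by rw [inv_eq_self_of_sq htt]
    have hr : F.r * y * F.r⁻¹ = y := by
      have e : F.r = i * t := by
        calc F.r = i * i * F.r := by rw [hi2, one_mul]
          _ = i * (i * F.r) := mul_assoc _ _ _
          _ = i * t := by rw [hirt]
      rw [e]
      calc i * t * y * (i * t)⁻¹ = i * (t * y * t⁻¹) * i⁻¹ := by group
        _ = y := by rw [hty, hinv _ (F.P.inv_mem hyP), inv_inv]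
    calc y * F.r = F.r * y * F.r⁻¹ * F.r := by rw [hr]
      _ = F.r * y := by group⟩
  haveI : Nonempty F.P := ⟨1⟩
  let F' : F.P → ↥(F.P ⊓ cen t) × ↥(F.P ⊓ cen F.r) := fun x =>
    (⟨(x : G) * ((Function.invFun f (f x) : F.P) : G)⁻¹, by
      have h' : ((Function.invFun f (f x) : F.P) : G)⁻¹ * (t * (Function.invFun f (f x) : F.P) * t⁻¹)
          = (x : G)⁻¹ * (t * x * t⁻¹) := congrArg Subtype.val (Function.invFun_eq (f := f) ⟨x, rfl⟩)
      generalize Function.invFun f (f x) = c at h'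
      refine mem_inf.2 ⟨F.P.mul_mem x.2 (F.P.inv_mem c.2), mem_cen.2 ?_⟩
      calc (x : G) * (c : G)⁻¹ * t
          = (x : G) * ((c : G)⁻¹ * (t * (c : G) * t⁻¹)) * (t * (c : G)⁻¹) := by group
        _ = (x : G) * ((x : G)⁻¹ * (t * x * t⁻¹)) * (t * (c : G)⁻¹) := by rw [h']
        _ = t * ((x : G) * (c : G)⁻¹) := by group⟩, f x)
  have hF' : Function.Injective F' := by
    intro a b hab
    have hfab : f a = f b := congrArg Prod.snd hab
    have h1 : (a : G) * ((Function.invFun f (f a) : F.P) : G)⁻¹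
        = (b : G) * ((Function.invFun f (f b) : F.P) : G)⁻¹ :=
      congrArg (fun p => ((p.1 : ↥(F.P ⊓ cen t)) : G)) hab
    rw [hfab] at h1
    exact Subtype.ext (mul_right_cancel h1)
  have hle27 := Nat.card_le_card_of_injective F' hF'
  rw [Nat.card_prod, F.card_P] at hle27
  have a1 := Nat.le_of_dvd (by norm_num) (card_inf_cen φ ht hG F.card_P htt ht1)
  have a2 := Nat.le_of_dvd (by norm_num) (card_inf_cen φ ht hG F.card_P F.rr F.r_ne)
  nlinarith

/-- The subgroup of order nine spanned by the two transvection-like elements. -/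
theorem card_E : Nat.card ↥(F.P ⊓ cen F.v) = 9 ∧ ∀ x ∈ F.P, (∀ y ∈ F.P, x * y = y * x) →
    x ∈ zpowers (uT φ) := by
  haveI : Fact (Nat.Prime 3) := ⟨Nat.prime_three⟩
  obtain ⟨hu3, hu1⟩ := uT_facts φ
  obtain ⟨hu, hPt, hv3, hPr, hcv, hvu, hp⟩ := frame_basic φ ht hG F
  have hd := Subgroup.card_dvd_of_le (inf_le_left : F.P ⊓ cen F.v ≤ F.P)
  rw [F.card_P] at hd
  have huE : uT φ ∈ F.P ⊓ cen F.v := mem_inf.2 ⟨hu, mem_cen.2 (mem_cen.1 (F.P_le F.vP)).symm⟩
  have h27 : Nat.card ↥(F.P ⊓ cen F.v) ≠ 27 := fun e => not_le_cen_v φ ht hG F (by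
    have := eq_of_le_of_card_ge (inf_le_left : F.P ⊓ cen F.v ≤ F.P) (by rw [e, F.card_P])
    exact this ▸ inf_le_right)
  have hlt : zpowers (uT φ) < F.P ⊓ cen F.v := lt_of_le_of_ne (zpowers_le.2 huE) fun e =>
    hvu (e ▸ mem_inf.2 ⟨F.vP, mem_cen.2 rfl⟩)
  have h3 : 3 < Nat.card ↥(F.P ⊓ cen F.v) := by
    by_contra hcon
    exact hlt.ne (eq_of_le_of_card_ge hlt.le (by rw [Nat.card_zpowers, orderOf_eq_prime hu3 hu1]; omega))
  have h9 : Nat.card ↥(F.P ⊓ cen F.v) = 9 := by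
    obtain ⟨j, hj, e⟩ := (Nat.dvd_prime_pow Nat.prime_three).1 (show _ ∣ 3 ^ 3 from hd)
    rw [e] at h3 h27 ⊢
    interval_cases j <;> first | omega | (norm_num at h3) | (norm_num at h27) | norm_num
  refine ⟨h9, fun x hx hxc => ?_⟩
  set Z := F.P ⊓ Subgroup.centralizer (F.P : Set G) with hZ
  have hxZ : x ∈ Z := mem_inf.2 ⟨hx, mem_centralizer_iff.2 fun y hy => (hxc y hy).symm⟩
  have hZle : Z ≤ F.P ⊓ cen F.v := fun y hy =>
    mem_inf.2 ⟨(mem_inf.1 hy).1, mem_cen.2 (mem_centralizer_iff.1 (mem_inf.1 hy).2 F.v F.vP).symm⟩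
  have huZ : zpowers (uT φ) ≤ Z := zpowers_le.2 (mem_inf.2 ⟨hu, mem_centralizer_iff.2 fun y hy =>
    mem_cen.1 (F.P_le hy)⟩)
  have hdZ := Subgroup.card_dvd_of_le hZle
  rw [h9] at hdZ
  obtain ⟨j, hj, e⟩ := (Nat.dvd_prime_pow Nat.prime_three).1 (show _ ∣ 3 ^ 2 from hdZ)
  have hZne : Nat.card Z ≠ 9 := fun e' => not_le_cen_v φ ht hG F fun y hy => by
    have := eq_of_le_of_card_ge hZle (by rw [e', h9])
    have hvZ : F.v ∈ Z := this ▸ mem_inf.2 ⟨F.vP, mem_cen.2 rfl⟩
    exact mem_cen.2 (mem_centralizer_iff.1 (mem_inf.1 hvZ).2 y hy)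
  have := eq_of_le_of_card_ge huZ (by
    rw [Nat.card_zpowers, orderOf_eq_prime hu3 hu1, e]
    rw [e] at hZne
    interval_cases j <;> first | omega | norm_num at hZne | norm_num)
  exact this ▸ hxZ

/-- The commutators of the 3-part lie in the group of the transvection. -/
theorem comm_mem {a b : G} (ha : a ∈ F.P) (hb : b ∈ F.P) :
    a * b * a⁻¹ * b⁻¹ ∈ zpowers (uT φ) := by
  haveI : Fact (Nat.Prime 3) := ⟨Nat.prime_three⟩
  obtain ⟨hu3, hu1⟩ := uT_facts φ
  obtain ⟨hu, hPt, hv3, hPr, hcv, hvu, hp⟩ := frame_basic φ ht hG F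
  haveI hn : ((zpowers (uT φ)).subgroupOf F.P).Normal := ⟨fun q hq g => by
    rw [mem_subgroupOf] at hq ⊢
    rw [coe_mul, coe_mul, coe_inv]
    obtain ⟨k, hk⟩ := hq
    simp only at hk
    rw [← hk, ((show Commute (g : G) (uT φ) from mem_cen.1 (F.P_le g.2)).zpow_right k).eq,
      mul_inv_cancel_right]
    exact zpow_mem (mem_zpowers _) k⟩
  have hq : Nat.card (F.P ⧸ (zpowers (uT φ)).subgroupOf F.P) = 3 ^ 2 := by
    have := Subgroup.card_mul_index ((zpowers (uT φ)).subgroupOf F.P)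
    rw [Nat.card_congr (subgroupOfEquivOfLe (zpowers_le.2 hu)).toEquiv, Nat.card_zpowers,
      orderOf_eq_prime hu3 hu1, F.card_P, index_eq_card] at this
    omega
  have hc := IsPGroup.commutative_of_card_eq_prime_sq hq
    (QuotientGroup.mk ⟨a, ha⟩) (QuotientGroup.mk ⟨b, hb⟩)
  have h1 : ((⟨a, ha⟩ * ⟨b, hb⟩ * ⟨a, ha⟩⁻¹ * ⟨b, hb⟩⁻¹ : F.P) :
      F.P ⧸ (zpowers (uT φ)).subgroupOf F.P) = 1 := by
    simp only [QuotientGroup.mk_mul, QuotientGroup.mk_inv]
    rw [hc]
    group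
  rw [QuotientGroup.eq_one_iff, mem_subgroupOf] at h1
  exact h1

/-- A noncentral element is conjugate in the 3-part to its whole coset. -/
theorem exists_conj_coset {y c : G} (hy : y ∈ F.P) (hy' : y ∉ zpowers (uT φ))
    (hc : c ∈ zpowers (uT φ)) : ∃ g ∈ F.P, g * y * g⁻¹ = c * y := by
  obtain ⟨hu3, hu1⟩ := uT_facts φ
  obtain ⟨hu, -⟩ := frame_basic φ ht hG F
  obtain ⟨g, hg, hgy⟩ : ∃ g ∈ F.P, g * y * g⁻¹ * y⁻¹ ≠ 1 := by
    by_contra hcon
    push Not at hcon
    exact hy' ((card_E φ ht hG F).2 y hy fun w hw => by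
      have := mul_inv_eq_one.1 (hcon w hw)
      exact (mul_inv_eq_iff_eq_mul.1 this).symm)
  set d := g * y * g⁻¹ * y⁻¹ with hd
  have h1 : g * y * g⁻¹ = d * y := by rw [hd]; group
  have hdz : d ∈ zpowers (uT φ) := comm_mem φ ht hG F hg hy
  have hgd : g * d * g⁻¹ = d := by
    obtain ⟨k, hk⟩ := hdz
    simp only at hk
    rw [← hk, ((show Commute g (uT φ) from mem_cen.1 (F.P_le hg)).zpow_right k).eq,
      mul_inv_cancel_right]
  have hd3 : d ^ 3 = 1 := by
    rcases zpowers_three hu3 hdz with e | e | e <;> simp [e, hu3]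
  have h2 : g * g * y * (g * g)⁻¹ = d⁻¹ * y := by
    calc g * g * y * (g * g)⁻¹ = g * (g * y * g⁻¹) * g⁻¹ := by group
      _ = g * (d * y) * g⁻¹ := by rw [h1]
      _ = (g * d * g⁻¹) * (g * y * g⁻¹) := by group
      _ = d * d * y := by rw [hgd, h1, ← mul_assoc]
      _ = d⁻¹ * y := by
        congr 1
        exact (inv_eq_of_mul_eq_one_right (by rw [← mul_assoc, ← sq, ← pow_succ, hd3])).symm
  have hcd : c = 1 ∨ c = d ∨ c = d⁻¹ := by
    rcases zpowers_three hu3 hc with e | e | e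
    · exact Or.inl e
    all_goals
      rcases zpowers_three hu3 hdz with f | f | f
      · exact absurd f hgy
      · simp [e, f]
      · simp [e, f]
  rcases hcd with rfl | rfl | rfl
  · exact ⟨1, one_mem _, by group⟩
  · exact ⟨g, hg, h1⟩
  · exact ⟨g * g, mul_mem hg hg, h2⟩

omit F

/-- A group of order 5616 has a subgroup of index thirteen. -/
theorem exists_index_thirteen : ∃ H : Subgroup G, H.index = 13 := by
  classical
  haveI : Fact (Nat.Prime 3) := ⟨Nat.prime_three⟩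
  obtain ⟨F⟩ := exists_frame φ ht hG
  obtain ⟨htt, ht1, -⟩ := t_facts φ ht
  obtain ⟨hu3, hu1⟩ := uT_facts φ
  obtain ⟨hu, hPt, hv3, hPr, hcv, hvu, hp⟩ := frame_basic φ ht hG F
  set E := F.P ⊓ cen F.v with hE
  have hE9 : Nat.card E = 9 := (card_E φ ht hG F).1
  have huE : uT φ ∈ E := mem_inf.2 ⟨hu, mem_cen.2 (mem_cen.1 (F.P_le F.vP)).symm⟩
  have hvE : F.v ∈ E := mem_inf.2 ⟨F.vP, mem_cen.2 rfl⟩
  set H := normalizer (E : Set G) with hH
  have hrH : F.r ∈ H := mem_normalizer_of_conj_le fun x hx => by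
    refine mem_inf.2 ⟨frame_conj_mem φ ht hG F (Or.inr F.ru) (mem_inf.1 hx).1, mem_cen.2 ?_⟩
    have h2 : F.r⁻¹ * F.v = F.v * F.r⁻¹ := (show Commute F.r F.v from F.vr.symm).inv_left.eq
    calc F.r * x * F.r⁻¹ * F.v = F.r * x * (F.r⁻¹ * F.v) := by group
      _ = F.r * (x * F.v) * F.r⁻¹ := by rw [h2]; group
      _ = F.r * (F.v * x) * F.r⁻¹ := by rw [mem_cen.1 (mem_inf.1 hx).2]
      _ = F.r * F.v * x * F.r⁻¹ := by group
      _ = F.v * (F.r * x * F.r⁻¹) := by rw [← F.vr]; group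
  have htH : t ∈ H := mem_normalizer_of_conj_le fun x hx => by
    have htu : t * uT φ * t⁻¹ = uT φ := by rw [← mem_cen.1 (uT_mem φ ht), mul_inv_cancel_right]
    refine mem_inf.2 ⟨frame_conj_mem φ ht hG F (Or.inl htu) (mem_inf.1 hx).1, mem_cen.2 ?_⟩
    have h1 : Commute (t * x * t⁻¹) (F.v⁻¹) := by
      rw [← t_inverts_v φ ht hG F]
      show t * x * t⁻¹ * (t * F.v * t⁻¹) = t * F.v * t⁻¹ * (t * x * t⁻¹)
      calc t * x * t⁻¹ * (t * F.v * t⁻¹) = t * (x * F.v) * t⁻¹ := by group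
        _ = t * (F.v * x) * t⁻¹ := by rw [mem_cen.1 (mem_inf.1 hx).2]
        _ = _ := by group
    simpa only [inv_inv] using h1.inv_right.eq
  -- a 3-subgroup normalizes its subgroups of index three
  have hnormE : ∀ R : Subgroup G, Nat.card R = 27 → E ≤ R → R ≤ H := by
    intro R hR hER
    haveI : (E.subgroupOf R).Normal := by
      apply Subgroup.normal_of_index_eq_minFac_card
      have := Subgroup.card_mul_index (E.subgroupOf R)
      rw [Nat.card_congr (subgroupOfEquivOfLe hER).toEquiv, hE9, hR] at this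
      rw [hR, show (E.subgroupOf R).index = 3 by omega]
      norm_num
    intro x hx
    refine mem_normalizer_of_conj_le fun y hy => ?_
    exact mem_subgroupOf.1 (Normal.conj_mem this ⟨y, hER hy⟩ (mem_subgroupOf.2 hy) ⟨x, hx⟩)
  have hPH : F.P ≤ H := hnormE F.P F.card_P inf_le_left
  have hcu : cen (uT φ) ≤ H := by
    have hinf : cen (uT φ) ⊓ H = cen (uT φ) := by
      refine eq_of_le_of_card_ge inf_le_left ?_
      rw [card_cen_uT φ ht hG]
      have h27 := F.card_P ▸ Subgroup.card_dvd_of_le (le_inf F.P_le hPH)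
      have h2 : 2 ∣ Nat.card ↥(cen (uT φ) ⊓ H) := by
        have := orderOf_dvd_natCard (⟨t, mem_inf.2 ⟨mem_cen.2 (mem_cen.1 (uT_mem φ ht)).symm, htH⟩⟩ :
          ↥(cen (uT φ) ⊓ H))
        rwa [← Subgroup.orderOf_coe, Subgroup.coe_mk, ht] at this
      exact Nat.le_of_dvd Nat.card_pos
        (Nat.Coprime.mul_dvd_of_dvd_of_dvd (by norm_num : Nat.Coprime 2 27) h2 h27)
    exact hinf ▸ inf_le_right
  -- the 3-part of the centralizer of `v`
  obtain ⟨R0, hR0⟩ := Sylow.exists_subgroup_card_pow_prime 3 (n := 3) (G := cen F.v)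
    (by rw [hcv]; norm_num)
  have hR0i : R0.index = 2 := by
    have := R0.card_mul_index
    rw [hR0, hcv] at this
    omega
  set R := R0.map (cen F.v).subtype with hRdef
  have hR27 : Nat.card R = 27 := by
    rw [hRdef, card_map_of_injective (subtype_injective _), hR0]; norm_num
  have hER : E ≤ R := fun x hx => by
    refine ⟨⟨x, (mem_inf.1 hx).2⟩, ?_, rfl⟩
    have h2 : (⟨x, (mem_inf.1 hx).2⟩ : cen F.v) * ⟨x, (mem_inf.1 hx).2⟩ ∈ R0 :=
      mul_self_mem_of_index_two hR0i _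
    have h := R0.pow_mem h2 14
    rw [← sq, ← pow_mul, show 2 * 14 = 27 + 1 by norm_num, pow_succ] at h
    rwa [show (⟨x, (mem_inf.1 hx).2⟩ : cen F.v) ^ 27 = 1 from Subtype.ext (hp x (mem_inf.1 hx).1),
      one_mul] at h
  obtain ⟨g, hgR, hgu⟩ : ∃ g ∈ R, g * uT φ * g⁻¹ ≠ uT φ := by
    by_contra hcon
    push Not at hcon
    refine not_le_cen_v φ ht hG F ?_
    have hRP : R ≤ F.P := fun x hx => F.mem_P x (mem_cen.2 (mul_inv_eq_iff_eq_mul.1 (hcon x hx))) (by
      have := pow_card_eq_one' (x := (⟨x, hx⟩ : R))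
      rw [hR27] at this
      exact congrArg Subtype.val this)
    exact (eq_of_le_of_card_ge hRP (by rw [hR27, F.card_P])) ▸ map_subtype_le R0
  have hgH : g ∈ H := hnormE R hR27 hER hgR
  have hgv : g * F.v = F.v * g := mem_cen.1 (map_subtype_le R0 hgR)
  -- the orbit of the transvection
  let N := H
  set O : Finset G := Finset.univ.filter fun x => ∃ h ∈ H, h * uT φ * h⁻¹ = x with hO
  have hcardH : Nat.card H = O.card * 54 := by
    rw [← card_cen_uT φ ht hG, ← Nat.card_eq_finsetCard, ← Nat.card_prod]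
    refine Nat.card_congr ?_
    have key : ∀ h : H, (h : G) * uT φ * (h : G)⁻¹ ∈ O := fun h =>
      Finset.mem_filter.2 ⟨Finset.mem_univ _, h, h.2, rfl⟩
    choose s hs hsu using fun x : O => (Finset.mem_filter.1 x.2).2
    exact {
      toFun := fun h => (⟨_, key h⟩, ⟨(s ⟨_, key h⟩)⁻¹ * h, mem_cen.2 (by
        calc (s ⟨_, key h⟩)⁻¹ * (h : G) * uT φ
            = (s ⟨_, key h⟩)⁻¹ * ((h : G) * uT φ * (h : G)⁻¹) * h := by group
          _ = (s ⟨_, key h⟩)⁻¹ * (s ⟨_, key h⟩ * uT φ * (s ⟨_, key h⟩)⁻¹) * h := by rw [hsu]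
          _ = uT φ * ((s ⟨_, key h⟩)⁻¹ * h) := by group)⟩)
      invFun := fun p => ⟨s p.1 * p.2, H.mul_mem (hs p.1) (hcu p.2.2)⟩
      left_inv := fun h => Subtype.ext (mul_inv_cancel_left _ _)
      right_inv := fun p => by
        have e : s p.1 * (p.2 : G) * uT φ * (s p.1 * (p.2 : G))⁻¹ = p.1 := by
          rw [mul_assoc (s p.1), mem_cen.1 p.2.2, ← hsu p.1]; group
        have e1 : (⟨_, key ⟨s p.1 * p.2, H.mul_mem (hs p.1) (hcu p.2.2)⟩⟩ : O) = p.1 :=
          Subtype.ext e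
        refine Prod.ext e1 (Subtype.ext ?_)
        show (s _)⁻¹ * (s p.1 * (p.2 : G)) = p.2
        rw [e1, inv_mul_cancel_left] }
  have hOE : O ⊆ Finset.univ.filter fun x => x ∈ E ∧ x ≠ 1 := fun x hx => by
    obtain ⟨h, hh, rfl⟩ := (Finset.mem_filter.1 hx).2
    exact Finset.mem_filter.2 ⟨Finset.mem_univ _, (mem_normalizer_iff.1 hh _).1 huE,
      fun e => hu1 (conj_eq_one_iff.1 e)⟩
  have hO8 : O.card ≤ 8 := by
    refine (Finset.card_le_card hOE).trans ?_
    have e : (Finset.univ.filter fun x => x ∈ E ∧ x ≠ 1) = (Finset.univ.filter fun x => x ∈ E).erase 1 := by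
      ext x; simp [and_comm]
    rw [e, Finset.card_erase_of_mem (by simp), ← Fintype.card_subtype, ← Nat.card_eq_fintype_card]
    change Nat.card E - 1 ≤ 8
    omega
  have hO5 : 5 ≤ O.card := by
    set a := g * uT φ * g⁻¹ * (uT φ)⁻¹ with ha
    set u₀ := uT φ with hu₀
    have hgg : g * g ∈ H := H.mul_mem hgH hgH
    have hgu2 : g * u₀ * g⁻¹ ≠ u₀⁻¹ := by
      intro e
      have h2 : g * g * u₀ * (g * g)⁻¹ = u₀ := by
        calc g * g * u₀ * (g * g)⁻¹ = g * (g * u₀ * g⁻¹) * g⁻¹ := by group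
          _ = g * u₀⁻¹ * g⁻¹ := by rw [e]
          _ = (g * u₀ * g⁻¹)⁻¹ := by group
          _ = u₀ := by rw [e, inv_inv]
      have h27 : g ^ 27 = 1 := by
        have := pow_card_eq_one' (x := (⟨g, hgR⟩ : R))
        rw [hR27] at this
        exact congrArg Subtype.val this
      have hc : Commute (g * g) u₀ := by
        show g * g * u₀ = u₀ * (g * g)
        exact mul_inv_eq_iff_eq_mul.1 h2
      have hc14 := hc.pow_left 14
      rw [← sq, ← pow_mul, show 2 * 14 = 27 + 1 by norm_num, pow_succ, h27, one_mul] at hc14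
      exact hgu (by rw [hc14.eq, mul_inv_cancel_right])
    have hgE : g * u₀ * g⁻¹ ∈ E := (mem_normalizer_iff.1 hgH _).1 huE
    have hg2u : g * g * u₀ * (g * g)⁻¹ ≠ u₀ := by
      intro h2
      have hc : Commute (g * g) u₀ := mul_inv_eq_iff_eq_mul.1 h2
      have h27 : g ^ 27 = 1 := by
        have := pow_card_eq_one' (x := (⟨g, hgR⟩ : R))
        rw [hR27] at this
        exact congrArg Subtype.val this
      have hc14 := hc.pow_left 14
      rw [← sq, ← pow_mul, show 2 * 14 = 27 + 1 by norm_num, pow_succ, h27, one_mul] at hc14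
      exact hgu (by rw [hc14.eq, mul_inv_cancel_right])
    have hg2n : g * g * u₀ * (g * g)⁻¹ ≠ u₀⁻¹ := by
      intro e
      have h4 : g * g * (g * g) * u₀ * (g * g * (g * g))⁻¹ = u₀ := by
        calc g * g * (g * g) * u₀ * (g * g * (g * g))⁻¹ = g * g * (g * g * u₀ * (g * g)⁻¹) * (g * g)⁻¹ := by group
          _ = g * g * u₀⁻¹ * (g * g)⁻¹ := by rw [e]
          _ = (g * g * u₀ * (g * g)⁻¹)⁻¹ := by simp [mul_assoc]
          _ = u₀ := by rw [e, inv_inv]
      have hc : Commute (g * g * (g * g)) u₀ := mul_inv_eq_iff_eq_mul.1 h4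
      have h27 : g ^ 27 = 1 := by
        have := pow_card_eq_one' (x := (⟨g, hgR⟩ : R))
        rw [hR27] at this
        exact congrArg Subtype.val this
      have hc7 := hc.pow_left 7
      rw [show g * g * (g * g) = g ^ 4 by simp [pow_succ, mul_assoc], ← pow_mul, show 4 * 7 = 27 + 1 by norm_num, pow_succ,
        h27, one_mul] at hc7
      exact hgu (by rw [hc7.eq, mul_inv_cancel_right])
    have hcu3 : ∀ c : G, c * u₀ * c⁻¹ ≠ (c * u₀ * c⁻¹)⁻¹ := fun c =>
      ne_inv_of_cube (by rw [conj_pow, hu3, mul_one, mul_inv_cancel]) fun e => hu1 (conj_eq_one_iff.1 e)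
    have hsub : ({u₀, u₀⁻¹, g * u₀ * g⁻¹, (g * u₀ * g⁻¹)⁻¹, g * g * u₀ * (g * g)⁻¹} : Finset G) ⊆ O := by
      intro x hx
      refine Finset.mem_filter.2 ⟨Finset.mem_univ _, ?_⟩
      simp only [Finset.mem_insert, Finset.mem_singleton] at hx
      rcases hx with rfl | rfl | rfl | rfl | rfl
      · exact ⟨1, H.one_mem, by simp [hu₀]⟩
      · exact ⟨F.r, hrH, F.ru⟩
      · exact ⟨g, hgH, rfl⟩
      · refine ⟨g * F.r, H.mul_mem hgH hrH, ?_⟩
        calc g * F.r * u₀ * (g * F.r)⁻¹ = g * (F.r * u₀ * F.r⁻¹) * g⁻¹ := by group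
          _ = g * u₀⁻¹ * g⁻¹ := by rw [F.ru]
          _ = (g * u₀ * g⁻¹)⁻¹ := by group
      · exact ⟨g * g, hgg, rfl⟩
    refine le_of_eq_of_le ?_ (Finset.card_le_card hsub)
    symm
    rw [Finset.card_insert_of_notMem, Finset.card_insert_of_notMem, Finset.card_insert_of_notMem,
      Finset.card_insert_of_notMem, Finset.card_singleton]
    all_goals simp only [Finset.mem_insert, Finset.mem_singleton, not_or]
    · intro e
      apply hgu2
      calc g * u₀ * g⁻¹ = g⁻¹ * (g * g * u₀ * (g * g)⁻¹) * g := by group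
        _ = g⁻¹ * (g * u₀ * g⁻¹)⁻¹ * g := by rw [← e]
        _ = u₀⁻¹ := by group
    · refine ⟨hcu3 g, fun e => hgu ?_⟩
      calc g * u₀ * g⁻¹ = g⁻¹ * (g * g * u₀ * (g * g)⁻¹) * g := by group
        _ = g⁻¹ * (g * u₀ * g⁻¹) * g := by rw [← e]
        _ = u₀ := by group
    · exact ⟨hgu2.symm, fun e => hgu (inv_injective e.symm), hg2n.symm⟩
    · exact ⟨ne_inv_of_cube hu3 hu1, hgu.symm,
        fun e => hgu2 (inv_eq_iff_eq_inv.1 e.symm), hg2u.symm⟩
  have hdiv := H.card_subgroup_dvd_card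
  rw [hG, hcardH] at hdiv
  refine ⟨H, ?_⟩
  have hmul := H.index_mul_card
  rw [hG, hcardH] at hmul
  have h104 : O.card ∣ 104 := Nat.dvd_of_mul_dvd_mul_right (by norm_num : 0 < 54) hdiv
  interval_cases O.card <;> omega

/-- Every element of order three is inverted by an involution. -/
theorem exists_inverting {y : G} (hy : y ^ 3 = 1) (hy1 : y ≠ 1) :
    ∃ i : G, i * i = 1 ∧ i ≠ 1 ∧ i * y * i⁻¹ = y⁻¹ := by
  haveI : Fact (Nat.Prime 3) := ⟨Nat.prime_three⟩
  obtain ⟨F⟩ := exists_frame φ ht hG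
  obtain ⟨htt, ht1, -⟩ := t_facts φ ht
  obtain ⟨hu3, hu1⟩ := uT_facts φ
  obtain ⟨hu, hPt, hv3, hPr, hcv, hvu, hp⟩ := frame_basic φ ht hG F
  obtain ⟨Q, hQ⟩ := (IsPGroup.of_card (p := 3) (n := 1)
    (by rw [Nat.card_zpowers, orderOf_eq_prime hy hy1, pow_one]) : IsPGroup 3 (zpowers y)).exists_le_sylow
  let P : Sylow 3 G := Sylow.ofCard F.P (by
    rw [F.card_P, hG, show (5616 : ℕ) = 3 ^ 3 * 208 by norm_num,
      Nat.factorization_mul (by norm_num) (by norm_num), Finsupp.add_apply,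
      Nat.Prime.factorization_pow (by norm_num),
      Nat.factorization_eq_zero_of_not_dvd (show ¬ 3 ∣ 208 by norm_num), Finsupp.single_eq_same]
    norm_num)
  obtain ⟨g, hg⟩ := MulAction.exists_smul_eq G Q P
  have hmem : g * y * g⁻¹ ∈ F.P := by
    have h := Subgroup.smul_mem_pointwise_smul y (MulAut.conj g) (Q : Subgroup G) (hQ (mem_zpowers y))
    have e : MulAut.conj g • (Q : Subgroup G) = F.P := congrArg (fun S : Sylow 3 G => (S : Subgroup G)) hg
    rw [e] at h
    exact h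
  suffices h : ∃ i : G, i * i = 1 ∧ i * (g * y * g⁻¹) * i⁻¹ = (g * y * g⁻¹)⁻¹ by
    obtain ⟨i, hi, hiy⟩ := h
    refine ⟨g⁻¹ * i * g, ?_, fun e => ?_, ?_⟩
    · rw [show g⁻¹ * i * g * (g⁻¹ * i * g) = g⁻¹ * (i * i) * g by group, hi]; group
    · have e' : i = 1 := by
        calc i = g * (g⁻¹ * i * g) * g⁻¹ := by group
          _ = 1 := by rw [e]; group
      rw [e', one_mul, inv_one, mul_one] at hiy
      exact ne_inv_of_cube (x := g * y * g⁻¹) (by rw [conj_pow, hy, mul_one, mul_inv_cancel])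
        (fun e => hy1 (conj_eq_one_iff.1 e)) hiy
    · calc g⁻¹ * i * g * y * (g⁻¹ * i * g)⁻¹ = g⁻¹ * (i * (g * y * g⁻¹) * i⁻¹) * g := by group
        _ = y⁻¹ := by rw [hiy]; group
  generalize hw : g * y * g⁻¹ = w at hmem ⊢
  have hw3 : w ^ 3 = 1 := by rw [← hw, conj_pow, hy, mul_one, mul_inv_cancel]
  by_cases hwu : w ∈ zpowers (uT φ)
  · refine ⟨F.r, F.rr, ?_⟩
    rcases zpowers_three hu3 hwu with rfl | rfl | rfl
    · simp
    · exact F.ru
    · rw [← conj_inv, F.ru]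
  have htu : t * uT φ * t⁻¹ = uT φ := by rw [← mem_cen.1 (uT_mem φ ht), mul_inv_cancel_right]
  set q := t * w * t⁻¹ with hq
  have hqP : q ∈ F.P := frame_conj_mem φ ht hG F (Or.inl htu) hmem
  have hinv := inv_eq_self_of_sq htt
  have hqw : w * q ∈ zpowers (uT φ) := by
    rw [← hPt]
    refine mem_inf.2 ⟨mul_mem hmem hqP, ?_⟩
    set c := (w * q)⁻¹ * (q * w) with hc
    have hcz : c ∈ zpowers (uT φ) := by
      have := comm_mem φ ht hG F (inv_mem hqP) (inv_mem hmem)
      rw [inv_inv, inv_inv] at this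
      convert this using 1
      rw [hc]; group
    have hconj : t * (w * q) * t⁻¹ = w * q * c := by
      rw [hc, hq, hinv]
      calc t * (w * (t * w * t)) * t = t * w * t * w * (t * t) := by group
        _ = t * w * t * w := by rw [htt, mul_one]
        _ = _ := by group
    have hctc : t * c * t⁻¹ = c := by
      obtain ⟨k, hk⟩ := hcz
      simp only at hk
      rw [← hk, ← ((show Commute (uT φ) t from mem_cen.1 (uT_mem φ ht)).zpow_left k).eq,
        mul_inv_cancel_right]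
    have hcc : c * c = 1 := by
      have h2 : t * (t * (w * q) * t⁻¹) * t⁻¹ = w * q := by
        rw [show t * (t * (w * q) * t⁻¹) * t⁻¹ = (t * t) * (w * q) * (t * t)⁻¹ by group, htt]; group
      rw [hconj, show t * (w * q * c) * t⁻¹ = t * (w * q) * t⁻¹ * (t * c * t⁻¹) by group, hconj,
        hctc, mul_assoc] at h2
      exact mul_eq_left.1 h2
    have hc1 : c = 1 := by
      rcases zpowers_three hu3 hcz with e | e | e
      · exact e
      · exfalso
        rw [e, ← sq] at hcc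
        exact hu1 (by rw [pow_succ, hcc, one_mul] at hu3; exact hu3)
      · exfalso
        rw [e, ← mul_inv_rev, inv_eq_one, ← sq] at hcc
        exact hu1 (by rw [pow_succ, hcc, one_mul] at hu3; exact hu3)
    rw [hc1, mul_one] at hconj
    exact mem_cen.2 (mul_inv_eq_iff_eq_mul.1 hconj).symm
  -- `t` inverts `w` modulo the centre
  obtain ⟨c, hc, hcq⟩ : ∃ c ∈ zpowers (uT φ), q = c * w⁻¹ := ⟨w * q, hqw, by
    have hcom : w⁻¹ * (w * q) = w * q * w⁻¹ := by
      obtain ⟨k, hk⟩ := hqw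
      simp only at hk
      rw [← hk]
      exact ((show Commute w⁻¹ (uT φ) from (show Commute w (uT φ) from mem_cen.1 (F.P_le hmem)).inv_left).zpow_right k).eq
    rw [← hcom, inv_mul_cancel_left]⟩
  have hw' : w⁻¹ ∉ zpowers (uT φ) := fun h => hwu (by simpa using inv_mem h)
  obtain ⟨a, haP, ha⟩ := exists_conj_coset φ ht hG F (inv_mem hmem) hw' hc
  set k := a⁻¹ * t with hk
  have hkw : k * w * k⁻¹ = w⁻¹ := by
    calc k * w * k⁻¹ = a⁻¹ * (t * w * t⁻¹) * a := by rw [hk]; group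
      _ = a⁻¹ * (a * w⁻¹ * a⁻¹) * a := by rw [← hq, hcq, ← ha]
      _ = w⁻¹ := by group
  have hk2 : k * k ∈ F.P := by
    rw [hk, show a⁻¹ * t * (a⁻¹ * t) = a⁻¹ * (t * a⁻¹ * t) by group]
    have := frame_conj_mem φ ht hG F (Or.inl htu) (inv_mem haP)
    rw [hinv] at this
    exact mul_mem (inv_mem haP) this
  refine ⟨k ^ 27, ?_, ?_⟩
  · rw [← pow_add, show 27 + 27 = 2 * 27 by norm_num, pow_mul, sq]
    exact hp _ hk2
  · have hodd : ∀ n : ℕ, k ^ (2 * n + 1) * w * (k ^ (2 * n + 1))⁻¹ = w⁻¹ := by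
      intro n
      induction n with
      | zero => simpa using hkw
      | succ n ih =>
        rw [show 2 * (n + 1) + 1 = 2 + (2 * n + 1) by ring, pow_add, sq]
        calc k * k * k ^ (2 * n + 1) * w * (k * k * k ^ (2 * n + 1))⁻¹
            = k * (k * (k ^ (2 * n + 1) * w * (k ^ (2 * n + 1))⁻¹) * k⁻¹) * k⁻¹ := by group
          _ = k * (k * w * k⁻¹)⁻¹ * k⁻¹ := by rw [ih]; group
          _ = w⁻¹ := by rw [hkw, inv_inv, hkw]
    exact hodd 13

end CfsgLib.GLTwoThree
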