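import Cfsg.Agent.GLTwoThree.Order

/-!
# Centralizers in a simple group of order 5616 with an involution centralizer `GL₂(3)`
-/

set_option autoImplicit false
set_option synthInstance.maxSize 4000

namespace CfsgLib.GLTwoThree

open Subgroup

universe u

/-- A transvection. -/
def uThree : Mat := ⟨(1, 1, 0, 1), by decide +kernel⟩

/-- A reflection inverting the transvection. -/
def refl : Mat := ⟨(1, 0, 0, 2), by decide +kernel⟩

theorem three_cases : ∀ x : Mat, x ^ 27 = 1 → x = 1 ∨ ∃ g : Mat, g * x * g⁻¹ = uThree := by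
  decide +kernel

theorem three_pow : ∀ x : Mat, x ^ 27 = 1 → x ^ 3 = 1 := by decide +kernel

theorem cent_three : ∀ x : Mat, x ^ 3 = 1 → x ≠ 1 →
    (Finset.univ.filter fun y : Mat => y * x = x * y).card = 6 := by decide +kernel

theorem mat_orders : ∀ x : Mat, x ^ 8 = 1 ∨ x ^ 6 = 1 := by decide +kernel

theorem two_elt_of_cent_three : ∀ x : Mat, x * uThree = uThree * x → x ^ 16 = 1 → x = 1 ∨ x = z := by
  decide +kernel

theorem refl_facts : refl * refl = 1 ∧ refl * uThree * refl⁻¹ = uThree⁻¹ ∧ refl ≠ 1 ∧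
    refl * z ≠ 1 ∧ refl * z * (refl * z) = 1 ∧ uThree ^ 3 = 1 ∧ uThree ≠ 1 ∧
    refl * z * uThree * (refl * z)⁻¹ = uThree⁻¹ := by decide +kernel

theorem borel_card : (Finset.univ.filter fun x : Mat => x ∈ borel).card = 12 := by decide +kernel

theorem borel_normalizes : ∀ x : Mat, x ∈ borel →
    x * uThree * x⁻¹ = uThree ∨ x * uThree * x⁻¹ = uThree⁻¹ := by decide +kernel

/-- The centralizer of an element. -/
abbrev cen {G : Type u} [Group G] (v : G) : Subgroup G := Subgroup.centralizer ({v} : Set G)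

theorem mem_cen {G : Type u} [Group G] {v x : G} : x ∈ cen v ↔ x * v = v * x :=
  Subgroup.mem_centralizer_singleton_iff

theorem card_cen_of_isConj {G : Type u} [Group G] [Finite G] {v w : G} (h : IsConj v w) :
    Nat.card (cen v) = Nat.card (cen w) := by
  have h1 := CfsgLib.Char.card_conj_class_mul_card_centralizer v
  have h2 := CfsgLib.Char.card_conj_class_mul_card_centralizer w
  have e : Nat.card {x : G // IsConj v x} = Nat.card {x : G // IsConj w x} :=
    Nat.card_congr (Equiv.subtypeEquivRight fun x => ⟨fun hx => h.symm.trans hx, fun hx => h.trans hx⟩)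
  rw [e] at h1
  exact Nat.eq_of_mul_eq_mul_left (Nat.pos_of_ne_zero fun e0 => by
    rw [e0, zero_mul] at h2
    exact Nat.card_pos.ne h2) (h1.trans h2.symm)

theorem inv_eq_self_of_sq {G : Type u} [Group G] {x : G} (h : x * x = 1) : x⁻¹ = x :=
  inv_eq_of_mul_eq_one_right h

theorem ne_inv_of_cube {G : Type u} [Group G] {x : G} (h : x ^ 3 = 1) (h1 : x ≠ 1) : x ≠ x⁻¹ := by
  intro e
  have h2 : x * x = 1 := by nth_rewrite 2 [e]; exact mul_inv_cancel x
  rw [pow_succ, sq, h2, one_mul] at h
  exact h1 h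

theorem exists_fixing_eight {G : Type u} [Group G] {S : Subgroup G} [Finite G] {w i : G}
    (hS : Nat.card S = 16) (hS2 : ∀ s ∈ S, s * i * s⁻¹ = i ∧ (s * w * s⁻¹ = w ∨ s * w * s⁻¹ = w⁻¹)) :
    4 ∣ Nat.card ↥(S ⊓ cen w) := by
  have hb : (S ⊓ cen w).relIndex S ≤ 2 := by
    show ((S ⊓ cen w).subgroupOf S).index ≤ 2
    by_cases hall : S ≤ cen w
    · have e : (S ⊓ cen w).subgroupOf S = ⊤ := by rw [subgroupOf_eq_top]; exact le_inf le_rfl hall
      rw [e, index_top]
      norm_num
    · obtain ⟨a, haS, ha⟩ := SetLike.not_le_iff_exists.1 hall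
      refine le_of_eq (index_eq_two_iff.2 ⟨⟨a, haS⟩, fun b => ?_⟩)
      have ha' : a * w * a⁻¹ = w⁻¹ := ((hS2 a haS).2).resolve_left fun e => ha (mem_cen.2 (by
        calc a * w = a * w * a⁻¹ * a := by group
          _ = w * a := by rw [e]))
      have key : ∀ c ∈ S, (c ∈ cen w ↔ c * w * c⁻¹ = w) := fun c _ => by
        rw [mem_cen]
        constructor
        · intro h; rw [h]; group
        · intro h
          calc c * w = c * w * c⁻¹ * c := by group
            _ = w * c := by rw [h]
      have hww : w⁻¹ ≠ w := fun e => ha (by rw [key a haS, ha', e])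
      have hb' : ∀ b : S, (b * ⟨a, haS⟩ ∈ (S ⊓ cen w).subgroupOf S ↔ (b : G) * w⁻¹ * (b : G)⁻¹ = w) := fun b => by
        rw [mem_subgroupOf, mem_inf, coe_mul, key _ (S.mul_mem b.2 haS), Subgroup.coe_mk]
        constructor
        · rintro ⟨-, h⟩
          calc (b : G) * w⁻¹ * (b : G)⁻¹ = (b : G) * (a * w * a⁻¹) * (b : G)⁻¹ := by rw [ha']
            _ = (b : G) * a * w * ((b : G) * a)⁻¹ := by group
            _ = w := h
        · intro h
          refine ⟨S.mul_mem b.2 haS, ?_⟩
          calc (b : G) * a * w * ((b : G) * a)⁻¹ = (b : G) * (a * w * a⁻¹) * (b : G)⁻¹ := by group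
            _ = w := by rw [ha', h]
      have hb'' : (b ∈ (S ⊓ cen w).subgroupOf S ↔ (b : G) * w * (b : G)⁻¹ = w) := by
        rw [mem_subgroupOf, mem_inf, key _ b.2]
        exact ⟨And.right, fun h => ⟨b.2, h⟩⟩
      rw [hb', hb'']
      have hi : (b : G) * w⁻¹ * (b : G)⁻¹ = ((b : G) * w * (b : G)⁻¹)⁻¹ := by group
      rw [hi]
      rcases (hS2 b b.2).2 with e | e <;> rw [e]
      · exact Or.inr ⟨rfl, hww⟩
      · exact Or.inl ⟨inv_inv w, hww⟩
  have hmul := Subgroup.card_mul_index ((S ⊓ cen w).subgroupOf S)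
  rw [Nat.card_congr (subgroupOfEquivOfLe (inf_le_left (b := cen w))).toEquiv, hS] at hmul
  change (_ * (S ⊓ cen w).relIndex S = 16) at hmul
  generalize Nat.card ↥(S ⊓ cen w) = N, (S ⊓ cen w).relIndex S = k at hmul hb
  interval_cases k <;> omega

variable {G : Type u} [Group G] [Fintype G] [DecidableEq G] [IsSimpleGroup G] {t : G}
  (φ : Subgroup.centralizer ({t} : Set G) ≃* Mat) (ht : orderOf t = 2) (hG : Nat.card G = 5616)

include φ ht

theorem exists_equiv {i : G} (hi : i * i = 1) (hi1 : i ≠ 1) : Nonempty (cen i ≃* Mat) := by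
  obtain ⟨g, hg⟩ := isConj_iff.1 (isConj_of_orderOf_two φ ht hi hi1)
  have e : (cen t).map (MulAut.conj g).toMonoidHom = cen i := by
    ext x
    rw [mem_map_equiv, mem_cen, mem_cen, MulAut.conj_symm_apply, ← hg]
    constructor
    · intro h
      calc x * (g * t * g⁻¹) = g * (g⁻¹ * x * g * t) * g⁻¹ := by group
        _ = g * (t * (g⁻¹ * x * g)) * g⁻¹ := by rw [h]
        _ = g * t * g⁻¹ * x := by group
    · intro h
      calc g⁻¹ * x * g * t = g⁻¹ * (x * (g * t * g⁻¹)) * g := by group
        _ = g⁻¹ * (g * t * g⁻¹ * x) * g := by rw [h]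
        _ = t * (g⁻¹ * x * g) := by group
  exact ⟨(((MulAut.conj g).subgroupMap (cen t)).trans (MulEquiv.subgroupCongr e)).symm.trans φ⟩

/-- The transvection in the centralizer. -/
theorem uT_mem : ((φ.symm uThree : Subgroup.centralizer ({t} : Set G)) : G) ∈ cen t := SetLike.coe_mem _

theorem order_eight_or_six {i x : G} (hi : i * i = 1) (hi1 : i ≠ 1) (hx : x * i = i * x) :
    x ^ 8 = 1 ∨ x ^ 6 = 1 := by
  obtain ⟨ψ⟩ := exists_equiv φ ht hi hi1
  have h := mat_orders (ψ ⟨x, mem_cen.2 hx⟩)
  rw [← map_pow, ← map_pow, ← map_one ψ] at h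
  rcases h with h | h
  · exact Or.inl (congrArg Subtype.val (ψ.injective h))
  · exact Or.inr (congrArg Subtype.val (ψ.injective h))

theorem isConj_uT {i v : G} (hi : i * i = 1) (hi1 : i ≠ 1) (hv : v ^ 27 = 1) (hv1 : v ≠ 1)
    (hvi : v * i = i * v) :
    IsConj v ((φ.symm uThree : Subgroup.centralizer ({t} : Set G)) : G) := by
  obtain ⟨g, hg⟩ := isConj_iff.1 (isConj_of_orderOf_two φ ht hi hi1).symm
  have hm : g * v * g⁻¹ ∈ cen t := by
    rw [mem_cen, ← hg]
    calc g * v * g⁻¹ * (g * i * g⁻¹) = g * (v * i) * g⁻¹ := by group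
      _ = g * (i * v) * g⁻¹ := by rw [hvi]
      _ = g * i * g⁻¹ * (g * v * g⁻¹) := by group
  rcases three_cases (φ ⟨_, hm⟩) (by
      rw [← map_pow, ← map_one φ]
      refine congrArg φ (Subtype.ext ?_)
      show (g * v * g⁻¹) ^ 27 = 1
      rw [conj_pow, hv, mul_one, mul_inv_cancel]) with h | ⟨k, hk⟩
  · exfalso
    rw [← map_one φ] at h
    exact hv1 (conj_eq_one_iff.1 (congrArg Subtype.val (φ.injective h)))
  · have : φ.symm k * ⟨_, hm⟩ * (φ.symm k)⁻¹ = φ.symm uThree := φ.injective (by
      rw [map_mul, map_mul, map_inv, φ.apply_symm_apply, φ.apply_symm_apply, hk])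
    refine isConj_iff.2 ⟨((φ.symm k : Subgroup.centralizer ({t} : Set G)) : G) * g, ?_⟩
    have h2 := congrArg Subtype.val this
    simp only [coe_mul, coe_inv] at h2
    rw [← h2]
    group

omit [DecidableEq G] [IsSimpleGroup G] ht in
theorem uT_facts : ((φ.symm uThree : Subgroup.centralizer ({t} : Set G)) : G) ^ 3 = 1 ∧
    ((φ.symm uThree : Subgroup.centralizer ({t} : Set G)) : G) ≠ 1 := by
  obtain ⟨-, -, -, -, -, h3, h1, -⟩ := refl_facts
  refine ⟨?_, fun e => h1 ?_⟩
  · rw [← coe_pow, ← map_pow, h3, map_one, coe_one]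
  · have : φ.symm uThree = 1 := Subtype.ext e
    rwa [map_eq_one_iff φ.symm φ.symm.injective] at this

include hG

/-- The centralizer and normalizer of an element of order thirteen. -/
theorem thirteen {x : G} (hx : orderOf x = 13) :
    Nat.card (cen x) = 13 ∧ Nat.card (normalizer ((zpowers x : Subgroup G) : Set G)) = 39 := by
  haveI : Fact (Nat.Prime 13) := ⟨by norm_num⟩
  have hf : (5616 : ℕ).factorization 13 = 1 := by
    rw [show (5616 : ℕ) = 13 * 432 by norm_num, Nat.factorization_mul (by norm_num) (by norm_num),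
      Finsupp.add_apply, Nat.Prime.factorization_self (by norm_num),
      Nat.factorization_eq_zero_of_not_dvd (show ¬ 13 ∣ 432 by norm_num)]
  let P : Sylow 13 G := Sylow.ofCard (zpowers x) (by rw [Nat.card_zpowers, hx, hG, hf, pow_one])
  set N := normalizer ((zpowers x : Subgroup G) : Set G) with hN
  have hn : Nat.card (Sylow 13 G) = N.index := P.card_eq_index_normalizer
  have hmod := card_sylow_modEq_one 13 G
  rw [hn] at hmod
  have hNi := N.index_mul_card
  rw [hG] at hNi
  have hPN : zpowers x ≤ N := le_normalizer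
  have h13 : 13 ∣ Nat.card N := by
    have := Subgroup.card_dvd_of_le hPN
    rwa [Nat.card_zpowers, hx] at this
  have hCN : cen x ≤ N := fun c hc => by
    rw [hN, mem_normalizer_iff]
    intro y
    have hc' : c * x = x * c := mem_cen.1 hc
    have key : ∀ k : ℤ, c * x ^ k * c⁻¹ = x ^ k := fun k => by
      rw [(Commute.zpow_right (show Commute c x from hc') k).eq, mul_inv_cancel_right]
    constructor
    · rintro ⟨k, rfl⟩; exact ⟨k, (key k).symm⟩
    · rintro ⟨k, hk⟩
      refine ⟨k, ?_⟩
      simp only at hk ⊢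
      rw [← key k] at hk
      exact mul_left_cancel (mul_right_cancel hk)
  -- the centralizer has odd order
  have hodd : ¬ 2 ∣ Nat.card (cen x) := by
    intro h2
    haveI : Fact (Nat.Prime 2) := ⟨Nat.prime_two⟩
    obtain ⟨i, hi⟩ := exists_prime_orderOf_dvd_card' 2 h2
    have hi2 : (i : G) * i = 1 := by
      rw [← coe_mul, ← sq, ← hi, pow_orderOf_eq_one, coe_one]
    have hi1 : (i : G) ≠ 1 := fun e => by
      have : i = 1 := Subtype.ext e
      rw [this, orderOf_one] at hi
      norm_num at hi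
    rcases order_eight_or_six φ ht hi2 hi1 (mem_cen.1 i.2).symm with h | h <;>
      · have := orderOf_dvd_of_pow_eq_one h
        rw [hx] at this
        norm_num at this
  -- the index of the centralizer in the normalizer divides twelve
  have hC13 : 13 ∣ Nat.card (cen x) := by
    have := Subgroup.card_dvd_of_le (show zpowers x ≤ cen x from zpowers_le.2 (mem_cen.2 rfl))
    rwa [Nat.card_zpowers, hx] at this
  have h12 : (cen x).relIndex N ∣ 12 := by
    have e : (cen x).subgroupOf N = (MonoidHom.ker ((zpowers x).normalizerMonoidHom)) := by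
      rw [normalizerMonoidHom_ker]
      ext c
      rw [mem_subgroupOf, mem_subgroupOf, mem_cen, mem_centralizer_iff]
      constructor
      · rintro h _ ⟨k, rfl⟩
        exact ((show Commute (c : G) x from h).zpow_right k).eq.symm
      · intro h; exact (h x (mem_zpowers x)).symm
    show ((cen x).subgroupOf N).index ∣ 12
    rw [e, index_ker]
    refine (card_subgroup_dvd_card _).trans ?_
    haveI : IsCyclic (zpowers x) := inferInstance
    rw [IsCyclic.card_mulAut, Nat.card_zpowers, hx, Nat.totient_prime (by norm_num)]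
  have hrel : Nat.card (cen x) * (cen x).relIndex N = Nat.card N := by
    have := Subgroup.card_mul_index ((cen x).subgroupOf N)
    rwa [Nat.card_congr (subgroupOfEquivOfLe hCN).toEquiv] at this
  -- not self-centralizing normalizer
  have hne : (cen x).relIndex N ≠ 1 := by
    intro e
    have hle : N ≤ cen x := relIndex_eq_one.1 e
    have hP : normalizer ((P : Subgroup G) : Set G) ≤ Subgroup.centralizer ((P : Subgroup G) : Set G) := by
      intro g hg
      rw [mem_centralizer_iff]
      rintro _ ⟨k, rfl⟩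
      exact ((show Commute g x from mem_cen.1 (hle hg)).zpow_right k).eq.symm
    have hc := MonoidHom.ker_transferSylow_isComplement' P hP
    rcases IsSimpleGroup.eq_bot_or_eq_top_of_normal (MonoidHom.transferSylow P hP).ker inferInstance with h | h
    · rw [h, isComplement'_bot_left] at hc
      have h1 : Nat.card (P : Subgroup G) = Nat.card G := by rw [hc, card_top]
      rw [show Nat.card (P : Subgroup G) = 13 from (Nat.card_zpowers x).trans hx, hG] at h1
      norm_num at h1
    · rw [h, isComplement'_top_left] at hc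
      have h1 : Nat.card (P : Subgroup G) = 1 := by rw [hc, card_bot]
      rw [show Nat.card (P : Subgroup G) = 13 from (Nat.card_zpowers x).trans hx] at h1
      norm_num at h1
  obtain ⟨c, hc⟩ := hC13
  have hmem : (cen x).relIndex N ∈ Nat.divisors 12 := Nat.mem_divisors.2 ⟨h12, by norm_num⟩
  rw [show Nat.divisors 12 = {1, 2, 3, 4, 6, 12} by decide] at hmem
  have hcd : c ∣ 432 := by
    have hd := (cen x).card_subgroup_dvd_card
    rw [hc, hG, show (5616 : ℕ) = 13 * 432 by norm_num] at hd
    exact Nat.dvd_of_mul_dvd_mul_left (by norm_num) hd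
  have hc27 : c ∣ 27 := by
    have h2c : ¬ 2 ∣ c := fun h => hodd (hc ▸ h.mul_left 13)
    rw [show (432 : ℕ) = 16 * 27 by norm_num] at hcd
    refine (Nat.Coprime.dvd_of_dvd_mul_left ?_ hcd)
    rw [show (16 : ℕ) = 2 ^ 4 by norm_num]
    exact (Nat.prime_two.coprime_iff_not_dvd.2 h2c).symm.pow_right 4
  have hc' : c ∈ Nat.divisors 27 := Nat.mem_divisors.2 ⟨hc27, by norm_num⟩
  rw [show Nat.divisors 27 = {1, 3, 9, 27} by decide] at hc'
  rw [hc] at hrel
  rw [← hrel] at hNi
  simp only [Finset.mem_insert, Finset.mem_singleton] at hmem hc'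
  have hmod' : N.index % 13 = 1 := by rw [hmod]
  rw [← hrel, hc]
  rcases hmem with e | e | e | e | e | e <;> rcases hc' with rfl | rfl | rfl | rfl <;>
    rw [e] at hNi hne ⊢ <;> omega

/-- Elements of order three commute with at most two-element 2-subgroups. -/
theorem card_cen_three_dvd {v : G} (hv : v ^ 3 = 1) (hv1 : v ≠ 1) : Nat.card (cen v) ∣ 54 := by
  have hd := (cen v).card_subgroup_dvd_card
  rw [hG] at hd
  have h13 : ¬ 13 ∣ Nat.card (cen v) := by
    intro h
    haveI : Fact (Nat.Prime 13) := ⟨by norm_num⟩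
    obtain ⟨x, hx⟩ := exists_prime_orderOf_dvd_card' 13 h
    rw [← Subgroup.orderOf_coe] at hx
    have h3 := orderOf_dvd_natCard (⟨v, mem_cen.2 (mem_cen.1 x.2).symm⟩ : cen (x : G))
    rw [(thirteen φ ht hG hx).1, ← Subgroup.orderOf_coe, Subgroup.coe_mk,
      orderOf_eq_prime hv hv1] at h3
    norm_num at h3
  have h4 : ¬ 4 ∣ Nat.card (cen v) := by
    intro h
    haveI : Fact (Nat.Prime 2) := ⟨Nat.prime_two⟩
    obtain ⟨S, hS⟩ := Sylow.exists_subgroup_card_pow_prime 2 (n := 2) (G := cen v) (by simpa using h)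
    have hcomm := IsPGroup.commutative_of_card_eq_prime_sq hS
    obtain ⟨i, hi⟩ := exists_prime_orderOf_dvd_card' 2 (show 2 ∣ Nat.card S by rw [hS]; norm_num)
    rw [← Subgroup.orderOf_coe, ← Subgroup.orderOf_coe] at hi
    have hi2 : ((i : cen v) : G) * (i : cen v) = 1 := by rw [← sq, ← hi, pow_orderOf_eq_one]
    have hi1 : ((i : cen v) : G) ≠ 1 := fun e => by rw [e, orderOf_one] at hi; norm_num at hi
    obtain ⟨ψ⟩ := exists_equiv φ ht hi2 hi1
    have hvi : v ∈ cen ((i : cen v) : G) := mem_cen.2 (mem_cen.1 (i : cen v).2).symm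
    have hSi : S.map (cen v).subtype ≤ cen ((i : cen v) : G) := by
      rintro _ ⟨s, hs, rfl⟩
      exact mem_cen.2 (congrArg (fun q : S => ((q : cen v) : G)) (hcomm ⟨s, hs⟩ i))
    set Q : Subgroup Mat := ((S.map (cen v).subtype).subgroupOf (cen ((i : cen v) : G))).map ψ.toMonoidHom
      with hQ
    have hQc : Nat.card Q = 4 := by
      rw [hQ, card_map_of_injective ψ.injective, Nat.card_congr (subgroupOfEquivOfLe hSi).toEquiv,
        card_map_of_injective (subtype_injective _), hS]
      norm_num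
    set K : Subgroup Mat := Subgroup.centralizer ({ψ ⟨v, hvi⟩} : Set Mat) with hK
    have hKc : Nat.card K = 6 := by
      have h3 : (ψ ⟨v, hvi⟩) ^ 3 = 1 := by
        rw [← map_pow, ← map_one ψ]; exact congrArg ψ (Subtype.ext hv)
      have h1 : ψ ⟨v, hvi⟩ ≠ 1 := fun e => hv1 (by
        rw [← map_one ψ] at e; exact congrArg Subtype.val (ψ.injective e))
      rw [← cent_three _ h3 h1, ← Fintype.card_subtype, ← Nat.card_eq_fintype_card]
      exact Nat.card_congr (Equiv.subtypeEquivRight fun y => mem_centralizer_singleton_iff)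
    have hQK : Q ≤ K := by
      rintro _ ⟨s, hs, rfl⟩
      obtain ⟨q, -, hq⟩ := (mem_subgroupOf.1 hs)
      rw [hK, mem_centralizer_singleton_iff]
      show ψ s * ψ ⟨v, hvi⟩ = ψ ⟨v, hvi⟩ * ψ s
      rw [← map_mul, ← map_mul]
      refine congrArg ψ (Subtype.ext ?_)
      show (s : G) * v = v * (s : G)
      rw [← hq]
      exact mem_cen.1 q.2
    have h := Subgroup.card_dvd_of_le hQK
    rw [hQc, hKc] at h
    norm_num at h
  have hcop : Nat.Coprime (Nat.card (cen v)) 13 :=
    ((Nat.Prime.coprime_iff_not_dvd (by norm_num)).2 h13).symm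
  have hd' : Nat.card (cen v) ∣ 432 := hcop.dvd_of_dvd_mul_left (show Nat.card (cen v) ∣ 13 * 432 from hd)
  have hmem : Nat.card (cen v) ∈ Nat.divisors 432 := Nat.mem_divisors.2 ⟨hd', by norm_num⟩
  revert hmem h4
  generalize Nat.card (cen v) = k
  intro h4 hmem
  have hall : ∀ k ∈ Nat.divisors 432, ¬ 4 ∣ k → k ∣ 54 := by decide +kernel
  exact hall k hmem h4

theorem card_cen_uT :
    Nat.card (cen ((φ.symm uThree : Subgroup.centralizer ({t} : Set G)) : G)) = 54 := by
  obtain ⟨hu3, hu1⟩ := uT_facts φ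
  set u := ((φ.symm uThree : Subgroup.centralizer ({t} : Set G)) : G) with hu
  have htt : t * t = 1 := by rw [← sq, ← ht, pow_orderOf_eq_one]
  have ht1 : t ≠ 1 := fun e => by rw [e, orderOf_one] at ht; norm_num at ht
  have htu : t * u = u * t := (mem_cen.1 (uT_mem φ ht)).symm
  haveI : Fact (Nat.Prime 3) := ⟨Nat.prime_three⟩
  have hdvd := card_cen_three_dvd φ ht hG hu3 hu1
  have h2 : 2 ∣ Nat.card (cen u) := by
    have := orderOf_dvd_natCard (⟨t, mem_cen.2 htu⟩ : cen u)
    rwa [← Subgroup.orderOf_coe, Subgroup.coe_mk, ht] at this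
  have hu3o : orderOf u = 3 := orderOf_eq_prime hu3 hu1
  obtain ⟨P, hP⟩ := (IsPGroup.of_card (p := 3) (n := 1) (by rw [Nat.card_zpowers, hu3o, pow_one]) :
    IsPGroup 3 (zpowers u)).exists_le_sylow
  have huP : u ∈ (P : Subgroup G) := hP (mem_zpowers u)
  have hP27 : Nat.card (P : Subgroup G) = 27 := by
    rw [P.card_eq_multiplicity, hG, show (5616 : ℕ) = 3 ^ 3 * 208 by norm_num,
      Nat.factorization_mul (by norm_num) (by norm_num), Finsupp.add_apply,
      Nat.Prime.factorization_pow (by norm_num),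
      Nat.factorization_eq_zero_of_not_dvd (show ¬ 3 ∣ 208 by norm_num), Finsupp.single_eq_same]
    norm_num
  haveI : Nontrivial (P : Subgroup G) := Finite.one_lt_card_iff_nontrivial.1 (by rw [hP27]; norm_num)
  have hZ := P.isPGroup'.center_nontrivial
  obtain ⟨w0, hw0⟩ := exists_prime_orderOf_dvd_card' 3 (show 3 ∣ Nat.card (center (P : Subgroup G)) by
    obtain ⟨n, hn, e⟩ := (P.isPGroup'.to_subgroup (center (P : Subgroup G))).nontrivial_iff_card.1 hZ
    rw [e]; exact dvd_pow_self 3 hn.ne')
  set w := ((w0 : (P : Subgroup G)) : G) with hw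
  have hwP : w ∈ (P : Subgroup G) := SetLike.coe_mem _
  have hwc : ∀ y ∈ (P : Subgroup G), y * w = w * y := fun y hy =>
    congrArg Subtype.val (mem_center_iff.1 w0.2 ⟨y, hy⟩)
  rw [← Subgroup.orderOf_coe, ← Subgroup.orderOf_coe] at hw0
  have hw3 : w ^ 3 = 1 := by rw [← hw0, pow_orderOf_eq_one]
  have hw1 : w ≠ 1 := fun e => by
    change orderOf w = 3 at hw0
    rw [e, orderOf_one] at hw0; norm_num at hw0
  have hPw : (P : Subgroup G) ≤ cen w := fun y hy => mem_cen.2 (hwc y hy)
  have hw27 : 27 ∣ Nat.card (cen w) := hP27 ▸ Subgroup.card_dvd_of_le hPw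
  set Q := (P : Subgroup G) ⊓ cen u with hQ
  by_contra hne
  -- the intersection with the Sylow subgroup has order at most nine
  have hQdvd : Nat.card Q ∣ 27 := hP27 ▸ Subgroup.card_dvd_of_le inf_le_left
  have hQc : Nat.card Q ∣ Nat.card (cen u) := Subgroup.card_dvd_of_le inf_le_right
  have hwu : w ∉ zpowers u := by
    intro hm
    apply hne
    obtain ⟨k, hk⟩ := hm
    simp only at hk
    have hk3 : ¬ (3 : ℤ) ∣ k := by
      rintro ⟨m, rfl⟩
      rw [zpow_mul, zpow_ofNat, hu3, one_zpow] at hk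
      exact hw1 hk.symm
    have hle : (P : Subgroup G) ≤ cen u := fun y hy => by
      obtain ⟨a, b, hab⟩ : IsCoprime k 3 :=
        ((Int.prime_three.coprime_iff_not_dvd).2 hk3).symm
      have e : u = w ^ a := by
        rw [← hk, ← zpow_mul]
        conv_lhs => rw [← zpow_one u, ← hab, zpow_add, mul_comm b, zpow_mul u 3 b, zpow_ofNat, hu3,
          one_zpow, mul_one, mul_comm a k]
      rw [mem_cen, e]
      exact ((show Commute y w from hwc y hy).zpow_right a).eq
    have h27 := hP27 ▸ Subgroup.card_dvd_of_le hle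
    have : Nat.card (cen u) ∣ 54 := hdvd
    obtain ⟨a, ha⟩ := h27
    rw [ha] at this h2 ⊢
    have := Nat.le_of_dvd (by norm_num) this
    rcases Nat.eq_zero_or_pos a with rfl | h
    · simp at this h2 ⊢
      omega
    · omega
  have hwQ : w ∈ Q := mem_inf.2 ⟨hwP, mem_cen.2 (hwc u huP).symm⟩
  have huQ : u ∈ Q := mem_inf.2 ⟨huP, mem_cen.2 rfl⟩
  have hQ9 : 9 ∣ Nat.card Q := by
    have hlt : zpowers u < Q := lt_of_le_of_ne (zpowers_le.2 huQ) fun e => hwu (e ▸ hwQ)
    have h1 := Subgroup.card_dvd_of_le hlt.le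
    rw [Nat.card_zpowers, hu3o] at h1
    have h3 : Nat.card Q ≠ 3 := fun e => hlt.ne (eq_of_le_of_card_ge hlt.le (by
      rw [e, Nat.card_zpowers, hu3o]))
    obtain ⟨j, hj, e⟩ := (Nat.dvd_prime_pow Nat.prime_three).1 (show Nat.card Q ∣ 3 ^ 3 from hQdvd)
    rw [e] at h1 h3 ⊢
    interval_cases j <;> first | omega | (norm_num at h3) | (norm_num at h1) | norm_num
  have hC18 : Nat.card (cen u) = 18 := by
    have h18 : 18 ∣ Nat.card (cen u) :=
      Nat.Coprime.mul_dvd_of_dvd_of_dvd (by norm_num : Nat.Coprime 2 9) h2 (hQ9.trans hQc)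
    obtain ⟨a, ha⟩ := h18
    rw [ha] at hdvd hne ⊢
    have := Nat.le_of_dvd (by norm_num) hdvd
    have : a = 1 ∨ a = 2 ∨ a = 3 := by
      rcases Nat.eq_zero_or_pos a with rfl | h
      · norm_num at hdvd
      · omega
    rcases this with rfl | rfl | rfl
    · rfl
    · norm_num at hdvd
    · exact absurd rfl hne
  have hQ9' : Nat.card Q = 9 := by
    obtain ⟨a, ha⟩ := hQ9
    rw [ha, hC18] at hQc
    rw [ha] at hQdvd ⊢
    have := Nat.le_of_dvd (by norm_num) hQc
    have : a = 1 ∨ a = 2 := by
      rcases Nat.eq_zero_or_pos a with rfl | h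
      · norm_num at hQc
      · omega
    rcases this with rfl | rfl
    · rfl
    · norm_num at hQdvd
  -- `t` normalizes the subgroup of order nine
  have htQ : ∀ q ∈ Q, t * q * t⁻¹ ∈ Q := by
    intro q hq
    have hN : (Q.subgroupOf (cen u)).Normal := by
      apply normal_of_index_eq_two
      have := Subgroup.card_mul_index (Q.subgroupOf (cen u))
      rw [Nat.card_congr (subgroupOfEquivOfLe (inf_le_right : Q ≤ cen u)).toEquiv, hQ9', hC18] at this
      omega
    have := hN.conj_mem ⟨q, (mem_inf.1 hq).2⟩ (mem_subgroupOf.2 hq) ⟨t, mem_cen.2 htu⟩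
    exact mem_subgroupOf.1 this
  -- the centralizer of `w` has odd order
  have hwodd : ¬ 2 ∣ Nat.card (cen w) := by
    intro hd
    haveI : Fact (Nat.Prime 2) := ⟨Nat.prime_two⟩
    obtain ⟨i, hi⟩ := exists_prime_orderOf_dvd_card' 2 hd
    rw [← Subgroup.orderOf_coe] at hi
    have hi2 : (i : G) * i = 1 := by rw [← sq, ← hi, pow_orderOf_eq_one]
    have hi1 : (i : G) ≠ 1 := fun e => by rw [e, orderOf_one] at hi; norm_num at hi
    have := card_cen_of_isConj (isConj_uT φ ht hi2 hi1
      (by rw [show (27 : ℕ) = 3 * 9 by norm_num, pow_mul, hw3, one_pow]) hw1 (mem_cen.1 i.2).symm)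
    rw [this, ← hu, hC18] at hw27
    norm_num at hw27
  have hCw : Nat.card (cen w) = 27 := by
    have hd := card_cen_three_dvd φ ht hG hw3 hw1
    obtain ⟨a, ha⟩ := hw27
    rw [ha] at hd hwodd ⊢
    have := Nat.le_of_dvd (by norm_num) hd
    omega
  have hPeq : (P : Subgroup G) = cen w := eq_of_le_of_card_ge hPw (by rw [hCw, hP27])
  -- commutators lie in the centre `⟨w⟩`
  have hZcard : Nat.card (zpowers w) = 3 := by rw [Nat.card_zpowers]; exact hw0
  have hwn : ((zpowers w).subgroupOf (P : Subgroup G)).Normal := ⟨fun q hq g => by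
    rw [mem_subgroupOf] at hq ⊢
    obtain ⟨k, hk⟩ := hq
    refine ⟨k, ?_⟩
    simp only at hk ⊢
    rw [coe_mul, coe_mul, coe_inv, ← hk, ((show Commute (g : G) w from hwc g g.2).zpow_right k).eq,
      mul_inv_cancel_right]⟩
  have hcomm : ∀ a ∈ (P : Subgroup G), ∀ b ∈ (P : Subgroup G), a * b * a⁻¹ * b⁻¹ ∈ zpowers w := by
    intro a ha b hb
    haveI := hwn
    have hq : Nat.card ((P : Subgroup G) ⧸ (zpowers w).subgroupOf (P : Subgroup G)) = 3 ^ 2 := by
      have := Subgroup.card_mul_index ((zpowers w).subgroupOf (P : Subgroup G))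
      rw [Nat.card_congr (subgroupOfEquivOfLe (zpowers_le.2 hwP)).toEquiv, hZcard, hP27,
        index_eq_card] at this
      omega
    have hc := IsPGroup.commutative_of_card_eq_prime_sq hq
      (QuotientGroup.mk ⟨a, ha⟩) (QuotientGroup.mk ⟨b, hb⟩)
    have h1 : ((⟨a, ha⟩ * ⟨b, hb⟩ * ⟨a, ha⟩⁻¹ * ⟨b, hb⟩⁻¹ : (P : Subgroup G)) :
        (P : Subgroup G) ⧸ (zpowers w).subgroupOf (P : Subgroup G)) = 1 := by
      simp only [QuotientGroup.mk_mul, QuotientGroup.mk_inv]
      rw [hc]
      group
    rw [QuotientGroup.eq_one_iff, mem_subgroupOf] at h1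
    exact h1
  by_cases htw : t * w * t⁻¹ ∈ zpowers w
  · -- then the Sylow normalizer has order 54
    have hnormw : ∀ g, g ∈ normalizer (((P : Subgroup G)) : Set G) → g * w * g⁻¹ ∈ zpowers w := by
      intro g hg
      by_contra hgw
      have hcen : ∀ y ∈ (P : Subgroup G), y * (g * w * g⁻¹) = g * w * g⁻¹ * y := by
        intro y hy
        have hy' : g⁻¹ * y * g ∈ (P : Subgroup G) := (mem_normalizer_iff.1 hg _).2 (by
          rw [show g * (g⁻¹ * y * g) * g⁻¹ = y by group]; exact hy)
        calc y * (g * w * g⁻¹) = g * ((g⁻¹ * y * g) * w) * g⁻¹ := by group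
          _ = g * (w * (g⁻¹ * y * g)) * g⁻¹ := by rw [hwc _ hy']
          _ = g * w * g⁻¹ * y := by group
      have hm : g * w * g⁻¹ ∈ Q :=
        mem_inf.2 ⟨(mem_normalizer_iff.1 hg _).1 hwP, mem_cen.2 (hcen u huP).symm⟩
      -- two central subgroups of order three make `u` central
      have hlt : zpowers w < Q ⊓ Subgroup.centralizer ((P : Subgroup G) : Set G) := lt_of_le_of_ne
        (zpowers_le.2 (mem_inf.2 ⟨hwQ, mem_centralizer_iff.2 fun y hy => hwc y hy⟩))
        fun e => hgw (e ▸ mem_inf.2 ⟨hm, mem_centralizer_iff.2 fun y hy => hcen y hy⟩)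
      have hd := Subgroup.card_dvd_of_le (inf_le_left : Q ⊓ Subgroup.centralizer ((P : Subgroup G) : Set G) ≤ Q)
      rw [hQ9'] at hd
      obtain ⟨j, hj, e⟩ := (Nat.dvd_prime_pow Nat.prime_three).1 (show _ ∣ 3 ^ 2 from hd)
      have h3 : 3 < Nat.card ↥(Q ⊓ Subgroup.centralizer ((P : Subgroup G) : Set G)) := by
        by_contra hcon
        exact hlt.ne (eq_of_le_of_card_ge hlt.le (by rw [hZcard]; omega))
      have hall : Q ≤ Subgroup.centralizer ((P : Subgroup G) : Set G) := by
        have : Q ⊓ Subgroup.centralizer ((P : Subgroup G) : Set G) = Q := eq_of_le_of_card_ge inf_le_left (by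
          rw [e] at h3 ⊢
          rw [hQ9']
          interval_cases j <;> first | omega | (norm_num at h3) | norm_num)
        exact this ▸ inf_le_right
      have hPu : (P : Subgroup G) ≤ cen u := fun y hy => mem_cen.2 (mem_centralizer_iff.1 (hall huQ) y hy)
      have := hP27 ▸ Subgroup.card_dvd_of_le hPu
      rw [hC18] at this
      norm_num at this
    set N := normalizer (((P : Subgroup G)) : Set G) with hN
    have hbound : Nat.card N ≤ 54 := by
      have hmap : ∀ g ∈ N, g * w * g⁻¹ = w ∨ g * w * g⁻¹ = w⁻¹ := by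
        intro g hg
        obtain ⟨k, hk⟩ := hnormw g hg
        simp only at hk
        have hk' : w ^ k = w ^ (k % 3) := by
          conv_lhs => rw [← Int.mul_ediv_add_emod k 3, zpow_add, zpow_mul, zpow_ofNat, hw3, one_zpow, one_mul]
        rw [← hk, hk']
        have h0 := Int.emod_nonneg k (by norm_num : (3 : ℤ) ≠ 0)
        have h3' := Int.emod_lt_of_pos k (by norm_num : (0 : ℤ) < 3)
        interval_cases hh : k % 3
        · exfalso
          rw [hk', zpow_zero] at hk
          exact hw1 (conj_eq_one_iff.1 hk.symm)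
        · exact Or.inl (zpow_one w)
        · right
          rw [show ((2 : ℤ)) = 3 + (-1) by norm_num, zpow_add, zpow_ofNat, hw3, one_mul, zpow_neg_one]
      let f : N → Bool := fun g => decide ((g : G) * w * (g : G)⁻¹ = w)
      have hinj : Nat.card N ≤ Nat.card (Bool × cen w) := by
        obtain ⟨g₀, hg₀⟩ : ∃ g₀ : G, ∀ g ∈ N, g * w * g⁻¹ ≠ w → g₀ * w * g₀⁻¹ = w⁻¹ ∧ g₀ ∈ N := by
          by_cases h : ∃ g ∈ N, g * w * g⁻¹ ≠ w
          · obtain ⟨g, hg, hgw⟩ := h
            exact ⟨g, fun _ _ _ => ⟨(hmap g hg).resolve_left hgw, hg⟩⟩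
          · exact ⟨1, fun g hg hgw => absurd ⟨g, hg, hgw⟩ h⟩
        refine Nat.card_le_card_of_injective (fun g : N =>
          if h : (g : G) * w * (g : G)⁻¹ = w then (true, (⟨g, mem_cen.2 (by
              calc (g : G) * w = (g : G) * w * (g : G)⁻¹ * g := by group
                _ = w * g := by rw [h])⟩ : cen w))
          else (false, ⟨g₀⁻¹ * g, mem_cen.2 (by
              have h1 := (hg₀ g g.2 h).1
              have h2 := (hmap g g.2).resolve_left h
              calc g₀⁻¹ * (g : G) * w = g₀⁻¹ * ((g : G) * w * (g : G)⁻¹) * g := by group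
                _ = g₀⁻¹ * (g₀ * w * g₀⁻¹) * g := by rw [h2, h1]
                _ = w * (g₀⁻¹ * g) := by group)⟩)) ?_
        intro a b hab
        simp only at hab
        split_ifs at hab <;> simp only [Prod.mk.injEq, Bool.true_eq_false, Bool.false_eq_true,
          false_and, true_and, Subtype.mk.injEq] at hab
        · exact Subtype.ext hab
        · exact Subtype.ext (mul_left_cancel hab)
      refine hinj.trans_eq ?_
      rw [Nat.card_prod, hCw, Nat.card_eq_fintype_card, Fintype.card_bool]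
    have htN : t ∈ N := by
      rw [hN, mem_normalizer_iff]
      intro y
      rw [hPeq]
      obtain ⟨k, hk⟩ := htw
      simp only at hk
      have hinv := inv_eq_self_of_sq htt
      have key : ∀ c, c ∈ cen w → t * c * t⁻¹ ∈ cen w := fun c hc => by
        have hc2 : t * c * t⁻¹ * w ^ k = w ^ k * (t * c * t⁻¹) := by
          rw [hk]
          calc t * c * t⁻¹ * (t * w * t⁻¹) = t * (c * w) * t⁻¹ := by group
            _ = t * (w * c) * t⁻¹ := by rw [mem_cen.1 hc]
            _ = t * w * t⁻¹ * (t * c * t⁻¹) := by group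
        have hk3 : ¬ (3 : ℤ) ∣ k := by
          rintro ⟨m, rfl⟩
          rw [zpow_mul, zpow_ofNat, hw3, one_zpow] at hk
          exact hw1 (conj_eq_one_iff.1 hk.symm)
        obtain ⟨a, b, hab⟩ : IsCoprime k 3 := ((Int.prime_three.coprime_iff_not_dvd).2 hk3).symm
        have e : w = (w ^ k) ^ a := by
          rw [← zpow_mul]
          conv_lhs => rw [← zpow_one w, ← hab, zpow_add, mul_comm b, zpow_mul w 3 b, zpow_ofNat, hw3,
            one_zpow, mul_one, mul_comm a k]
        rw [mem_cen, e]
        exact (Commute.zpow_right hc2 a).eq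
      constructor
      · exact key y
      · intro h
        have := key _ h
        rwa [hinv, show t * (t * y * t) * t = (t * t) * y * (t * t) by group, htt, one_mul, mul_one] at this
    have hPN : (P : Subgroup G) ≤ N := le_normalizer
    have h54 : 54 ∣ Nat.card N := by
      have h27 := hP27 ▸ Subgroup.card_dvd_of_le hPN
      have h2N : 2 ∣ Nat.card N := by
        have := orderOf_dvd_natCard (⟨t, htN⟩ : N)
        rwa [← Subgroup.orderOf_coe, Subgroup.coe_mk, ht] at this
      exact Nat.Coprime.mul_dvd_of_dvd_of_dvd (by norm_num : Nat.Coprime 2 27) h2N h27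
    have hN54 : Nat.card N = 54 := le_antisymm hbound (Nat.le_of_dvd Nat.card_pos h54)
    have hidx := N.index_mul_card
    rw [hG, hN54] at hidx
    have hmod := card_sylow_modEq_one 3 G
    rw [P.card_eq_index_normalizer] at hmod
    change N.index ≡ 1 [MOD 3] at hmod
    rw [show N.index = 104 by omega] at hmod
    norm_num [Nat.ModEq] at hmod
  · -- otherwise `w` is conjugate to a power of `u`
    have hm := htQ w hwQ
    set q := t * w * t⁻¹ with hq
    have hq3 : q ^ 3 = 1 := by rw [hq, conj_pow, hw3, mul_one, mul_inv_cancel]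
    have hqP : q ∈ (P : Subgroup G) := (mem_inf.1 hm).1
    -- the class of `q` in the Sylow subgroup is its coset
    obtain ⟨g, hgP, hgq⟩ : ∃ g ∈ (P : Subgroup G), g * q ≠ q * g := by
      by_contra hc
      push Not at hc
      have hle : (P : Subgroup G) ≤ cen q := fun y hy => mem_cen.2 (hc y hy)
      have hqc := card_cen_of_isConj (show IsConj w q from isConj_iff.2 ⟨t, hq.symm⟩)
      rw [hCw] at hqc
      have hPq : cen w = cen q := hPeq ▸ eq_of_le_of_card_ge hle (by rw [← hqc, hP27])
      apply htw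
      by_contra
      have : t ∈ normalizer (((P : Subgroup G)) : Set G) := by
        rw [mem_normalizer_iff]
        intro y
        rw [hPeq]
        nth_rewrite 2 [hPq]
        rw [mem_cen, mem_cen, hq]
        constructor
        · intro h
          calc t * y * t⁻¹ * (t * w * t⁻¹) = t * (y * w) * t⁻¹ := by group
            _ = t * (w * y) * t⁻¹ := by rw [h]
            _ = t * w * t⁻¹ * (t * y * t⁻¹) := by group
        · intro h
          calc y * w = t⁻¹ * (t * y * t⁻¹ * (t * w * t⁻¹)) * t := by group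
            _ = t⁻¹ * (t * w * t⁻¹ * (t * y * t⁻¹)) * t := by rw [h]
            _ = w * y := by group
      -- both generate the centre, but `u` is not central
      have hlt : zpowers w < Q ⊓ Subgroup.centralizer ((P : Subgroup G) : Set G) := lt_of_le_of_ne
        (zpowers_le.2 (mem_inf.2 ⟨hwQ, mem_centralizer_iff.2 fun y hy => hwc y hy⟩))
        fun e => htw (e ▸ mem_inf.2 ⟨hm, mem_centralizer_iff.2 fun y hy => hc y hy⟩)
      have h3 : 3 < Nat.card ↥(Q ⊓ Subgroup.centralizer ((P : Subgroup G) : Set G)) := by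
        by_contra hcon
        exact hlt.ne (eq_of_le_of_card_ge hlt.le (by rw [hZcard]; omega))
      have hd := Subgroup.card_dvd_of_le (inf_le_left : Q ⊓ Subgroup.centralizer ((P : Subgroup G) : Set G) ≤ Q)
      rw [hQ9'] at hd
      obtain ⟨j, hj, e⟩ := (Nat.dvd_prime_pow Nat.prime_three).1 (show _ ∣ 3 ^ 2 from hd)
      have hall : Q ⊓ Subgroup.centralizer ((P : Subgroup G) : Set G) = Q := eq_of_le_of_card_ge inf_le_left (by
        rw [e] at h3 ⊢
        rw [hQ9']
        interval_cases j <;> first | omega | (norm_num at h3) | norm_num)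
      have hPu : (P : Subgroup G) ≤ cen u := fun y hy => by
        rw [← hall] at huQ
        exact mem_cen.2 (mem_centralizer_iff.1 (mem_inf.1 huQ).2 y hy)
      have := hP27 ▸ Subgroup.card_dvd_of_le hPu
      rw [hC18] at this
      norm_num at this
    -- `u` generates a different coset of the centre
    obtain ⟨c, hc⟩ := hcomm g hgP q hqP
    simp only at hc
    have hc3 : ¬ (3 : ℤ) ∣ c := by
      rintro ⟨m, rfl⟩
      rw [zpow_mul, zpow_ofNat, hw3, one_zpow] at hc
      exact hgq (mul_inv_eq_iff_eq_mul.1 (mul_inv_eq_one.1 hc.symm))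
    have hgpow : ∀ k : ℕ, g ^ k * q * (g ^ k)⁻¹ = q * w ^ (c * k) := by
      intro k
      induction k with
      | zero => simp
      | succ k ih =>
        have h1 : g * q * g⁻¹ = w ^ c * q := by rw [hc]; group
        calc g ^ (k + 1) * q * (g ^ (k + 1))⁻¹ = g * (g ^ k * q * (g ^ k)⁻¹) * g⁻¹ := by
              rw [pow_succ']; group
          _ = g * q * g⁻¹ * (g * w ^ (c * k) * g⁻¹) := by rw [ih]; group
          _ = w ^ c * q * w ^ (c * k) := by
              rw [h1, ((show Commute g w from hwc g hgP).zpow_right _).eq, mul_inv_cancel_right]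
          _ = q * w ^ (c * (k + 1 : ℕ)) := by
              rw [← ((show Commute q w from hwc q hqP).zpow_right c).eq, mul_assoc, ← zpow_add]
              congr 2
              push_cast
              ring
    -- `Q` is covered by the cosets of powers of `u`
    obtain ⟨i, j, hij⟩ : ∃ i j : ℤ, q = u ^ i * w ^ j := by
      have hcu : ∀ k : ℤ, Commute (u) (w ^ k) := fun k => (show Commute u w from hwc u huP).zpow_right k
      let R : Subgroup G :=
        { carrier := {x | ∃ i j : ℤ, x = u ^ i * w ^ j}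
          mul_mem' := by
            rintro _ _ ⟨a, b, rfl⟩ ⟨a', b', rfl⟩
            refine ⟨a + a', b + b', ?_⟩
            rw [zpow_add, zpow_add, mul_assoc, ← mul_assoc (w ^ b), ← ((hcu b).zpow_left a').eq]
            group
          one_mem' := ⟨0, 0, by simp⟩
          inv_mem' := by
            rintro _ ⟨a, b, rfl⟩
            refine ⟨-a, -b, ?_⟩
            rw [mul_inv_rev, zpow_neg, zpow_neg]
            exact (((hcu b).zpow_left a).inv_inv).symm.eq }
      have hRQ : R ≤ Q := by
        rintro _ ⟨a, b, rfl⟩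
        exact Q.mul_mem (Q.zpow_mem huQ a) (Q.zpow_mem hwQ b)
      have hu_R : u ∈ R := ⟨1, 0, by simp⟩
      have hw_R : w ∈ R := ⟨0, 1, by simp⟩
      have hlt : zpowers u < R := lt_of_le_of_ne (zpowers_le.2 hu_R) fun e => hwu (e ▸ hw_R)
      have hd := Subgroup.card_dvd_of_le hRQ
      rw [hQ9'] at hd
      obtain ⟨j, hj, e⟩ := (Nat.dvd_prime_pow Nat.prime_three).1 (show _ ∣ 3 ^ 2 from hd)
      have h3 : 3 < Nat.card R := by
        by_contra hcon
        exact hlt.ne (eq_of_le_of_card_ge hlt.le (by rw [Nat.card_zpowers, hu3o]; omega))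
      have hRQ' : R = Q := eq_of_le_of_card_ge hRQ (by
        rw [e] at h3 ⊢
        rw [hQ9']
        interval_cases j <;> first | omega | (norm_num at h3) | norm_num)
      exact (hRQ' ▸ hm : q ∈ R)
    obtain ⟨a, b, hab⟩ : IsCoprime c 3 := ((Int.prime_three.coprime_iff_not_dvd).2 hc3).symm
    -- choose the exponent that removes `w ^ j`
    set k := ((-j * a) % 3).toNat with hk
    have hkc : w ^ (c * (k : ℤ)) = w ^ (-j) := by
      rw [hk, Int.toNat_of_nonneg (Int.emod_nonneg _ (by norm_num))]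
      have e : c * ((-j * a) % 3) = -j + 3 * (j * b - c * ((-j * a) / 3)) := by
        have := Int.emod_add_mul_ediv (-j * a) 3
        linear_combination c * this + (-j) * hab
      rw [e, zpow_add, zpow_mul, zpow_ofNat, hw3, one_zpow, mul_one]
    have hconj : IsConj q (u ^ i) := isConj_iff.2 ⟨g ^ k, by
      rw [hgpow, hkc, hij, mul_assoc, ← zpow_add, add_neg_cancel, zpow_zero, mul_one]⟩
    have hwconj : IsConj w (u ^ i) := (isConj_iff.2 ⟨t, hq.symm⟩ : IsConj w q).trans hconj
    have hcu' := card_cen_of_isConj hwconj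
    have hle : cen u ≤ cen (u ^ i) := fun y hy =>
      mem_cen.2 ((show Commute y u from mem_cen.1 hy).zpow_right i).eq
    have h := Subgroup.card_dvd_of_le hle
    rw [← hcu', hC18, hCw] at h
    norm_num at h

end CfsgLib.GLTwoThree
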