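import Mathlib.Data.ZMod.Basic
import Mathlib.GroupTheory.Perm.Basic
import Mathlib.GroupTheory.OrderOfElement
import Mathlib.Tactic.NormNum
import Mathlib.Tactic.FinCases
import Mathlib.Tactic.Ring
import Mathlib.Tactic.NormNum.Prime

/-!
# Involutions of thirteen points inverting a multiplier of order three
-/

set_option autoImplicit false
set_option maxRecDepth 100000

namespace CfsgLib.GLTwoThree.Thirteen

/-- The map with given values at `1, 2, 4, 7` carrying multiplication by `3` to multiplication by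
`9`. -/
def vfun (a b c d i : ZMod 13) : ZMod 13 :=
  [0, a, b, 9 * a, c, 3 * b, 9 * b, d, 9 * d, 3 * a, 3 * c, 3 * d, 9 * c].getD i.val 0

theorem eq_vfun {v : ZMod 13 → ZMod 13} (h0 : v 0 = 0) (h : ∀ i, v (3 * i) = 9 * v i) :
    v = vfun (v 1) (v 2) (v 4) (v 7) := by
  have h3 : v 3 = 9 * v 1 := h 1
  have h9 : v 9 = 3 * v 1 := by
    rw [show (9 : ZMod 13) = 3 * 3 by decide, h 3, h3, ← mul_assoc]; congr 1
  have h6 : v 6 = 9 * v 2 := by rw [show (6 : ZMod 13) = 3 * 2 by decide, h 2]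
  have h5 : v 5 = 3 * v 2 := by
    rw [show (5 : ZMod 13) = 3 * 6 by decide, h 6, h6, ← mul_assoc]; congr 1
  have h12 : v 12 = 9 * v 4 := by rw [show (12 : ZMod 13) = 3 * 4 by decide, h 4]
  have h10 : v 10 = 3 * v 4 := by
    rw [show (10 : ZMod 13) = 3 * 12 by decide, h 12, h12, ← mul_assoc]; congr 1
  have h8 : v 8 = 9 * v 7 := by rw [show (8 : ZMod 13) = 3 * 7 by decide, h 7]
  have h11 : v 11 = 3 * v 7 := by
    rw [show (11 : ZMod 13) = 3 * 8 by decide, h 8, h8, ← mul_assoc]; congr 1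
  funext i
  revert i
  show ∀ i : Fin 13, v i = vfun (v 1) (v 2) (v 4) (v 7) i
  intro i
  fin_cases i <;> first
    | exact h0 | rfl | exact h3 | exact h5 | exact h6 | exact h8 | exact h9 | exact h10
    | exact h11 | exact h12

/-- All residues. -/
def univList : List (ZMod 13) := [0, 1, 2, 3, 4, 5, 6, 7, 8, 9, 10, 11, 12]

theorem mem_univList (i : ZMod 13) : i ∈ univList := by revert i; decide

/-- The orders dividing one of `8, 6, 27, 13`. -/
def goodOrd (f : ZMod 13 → ZMod 13) : Bool :=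
  univList.all (fun i => f^[8] i == i) || univList.all (fun i => f^[6] i == i) ||
    univList.all (fun i => f^[13] i == i) || univList.all (fun i => f^[27] i == i)

/-- The standard involution. -/
def std (i : ZMod 13) : ZMod 13 := vfun 1 2 10 11 i

/-- Either not an involution, or it yields an excluded order, or a conjugate of the standard one. -/
def classified (a b c d : ZMod 13) : Bool :=
  univList.any (fun i => vfun a b c d (vfun a b c d i) != i) ||
  univList.any (fun m => univList.any fun m' => m * m' == 1 &&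
    univList.all (fun i => m * vfun a b c d (m' * i) == std i)) ||
  univList.all (fun i => vfun a b c d i == i) ||
  univList.any (fun i => !goodOrd (fun x => vfun a b c d x + i))

theorem classified_all : univList.all (fun a => univList.all fun b => univList.all fun c =>
    univList.all fun d => classified a b c d) = true := by
  decide +kernel

theorem goodOrd_of_pow {p : Equiv.Perm (ZMod 13)} {f : ZMod 13 → ZMod 13} (hp : ∀ i, p i = f i)
    (h : p ^ 8 = 1 ∨ p ^ 6 = 1 ∨ p ^ 13 = 1 ∨ p ^ 27 = 1) : goodOrd f = true := by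
  obtain rfl : ⇑p = f := funext hp
  simp only [goodOrd, Bool.or_eq_true, List.all_eq_true, beq_iff_eq, ← Equiv.Perm.coe_pow]
  rcases h with h | h | h | h <;> simp [h]

/-- Translation by one. -/
def c0 : Equiv.Perm (ZMod 13) := ⟨fun i => i + 1, fun i => i - 1, fun i => by simp, fun i => by simp⟩

/-- Multiplication by three. -/
def y0 : Equiv.Perm (ZMod 13) :=
  ⟨fun i => 3 * i, fun i => 9 * i, by decide +kernel, by decide +kernel⟩

/-- The standard involution as a permutation. -/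
def v0 : Equiv.Perm (ZMod 13) := ⟨std, std, by decide +kernel, by decide +kernel⟩

theorem c0_pow (m : ℕ) (i : ZMod 13) : (c0 ^ m) i = i + m := by
  induction m with
  | zero => simp
  | succ m ih => rw [pow_succ', Equiv.Perm.mul_apply, ih]; show i + m + 1 = _; push_cast; ring

theorem orderOf_c0 : orderOf c0 = 13 := by
  haveI : Fact (Nat.Prime 13) := ⟨by norm_num⟩
  exact orderOf_eq_prime (by decide +kernel) (by decide +kernel)

theorem orderOf_y0 : orderOf y0 = 3 := by
  haveI : Fact (Nat.Prime 3) := ⟨by norm_num⟩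
  exact orderOf_eq_prime (by decide +kernel) (by decide +kernel)

theorem y0_c0 : y0 * c0 * y0⁻¹ = c0 ^ 3 := by decide +kernel

theorem orderOf_eight : orderOf (c0 * v0) = 8 ∨ orderOf (c0 ^ 2 * v0) = 8 ∨
    orderOf (c0 ^ 3 * v0) = 8 ∨ orderOf (c0 ^ 4 * v0) = 8 ∨ orderOf (c0 ^ 5 * v0) = 8 := by
  have key : ∀ q : Equiv.Perm (ZMod 13), q ^ 4 ≠ 1 → q ^ 8 = 1 → orderOf q = 8 := fun q h4 h8 =>
    orderOf_eq_prime_pow (p := 2) (n := 2) (by simpa using h4) (by simpa using h8)
  have h : ((c0 * v0) ^ 4 ≠ 1 ∧ (c0 * v0) ^ 8 = 1) ∨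
      ((c0 ^ 2 * v0) ^ 4 ≠ 1 ∧ (c0 ^ 2 * v0) ^ 8 = 1) ∨
      ((c0 ^ 3 * v0) ^ 4 ≠ 1 ∧ (c0 ^ 3 * v0) ^ 8 = 1) ∨
      ((c0 ^ 4 * v0) ^ 4 ≠ 1 ∧ (c0 ^ 4 * v0) ^ 8 = 1) ∨
      ((c0 ^ 5 * v0) ^ 4 ≠ 1 ∧ (c0 ^ 5 * v0) ^ 8 = 1) := by decide +kernel
  rcases h with h | h | h | h | h
  · exact Or.inl (key _ h.1 h.2)
  · exact Or.inr (Or.inl (key _ h.1 h.2))
  · exact Or.inr (Or.inr (Or.inl (key _ h.1 h.2)))
  · exact Or.inr (Or.inr (Or.inr (Or.inl (key _ h.1 h.2))))
  · exact Or.inr (Or.inr (Or.inr (Or.inr (key _ h.1 h.2))))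

/-- The standard group. -/
def stdGroup : Subgroup (Equiv.Perm (ZMod 13)) := Subgroup.closure {c0, y0, v0}

end CfsgLib.GLTwoThree.Thirteen
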