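import Cfsg.Agent.GLTwoThree.L33.Index
import Cfsg.Prelude.Def_Transfer

/-!
# Simplicity of a group equal to its 2-residual with an involution centralizer `GL₂(3)`
-/

set_option autoImplicit false
set_option synthInstance.maxSize 4000

namespace CfsgLib.GLTwoThree

open Subgroup

universe u

theorem three_invol : ∀ x : Mat, ∃ i : Mat, i * i = 1 ∧ ∃ j : Mat, j * j = 1 ∧
    i * j * x * (i * j * x) = 1 := by decide +kernel

theorem odd_normal : ∀ x : Mat, x ^ 3 = 1 → x ≠ 1 → ∃ g : Mat, (x * (g * x * g⁻¹)) ^ 3 ≠ 1 := by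
  decide +kernel

theorem pow_24 : ∀ x : Mat, x ^ 24 = 1 := by decide +kernel

theorem not_index_two {G : Type u} [Group G] [Finite G] (hO : Cfsg.pResidual 2 G = ⊤)
    {M : Subgroup G} (hM : M.index = 2) : False := by
  have hle : Cfsg.pResidual 2 G ≤ M := by
    rw [Cfsg.pResidual, closure_le]
    intro g hg
    have hodd : Odd (orderOf g) := by
      rw [← Nat.not_even_iff_odd, even_iff_two_dvd]
      intro h2
      have := Nat.dvd_gcd h2 (dvd_refl 2)
      rw [show Nat.gcd (orderOf g) 2 = 1 from hg] at this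
      norm_num at this
    obtain ⟨k, hk⟩ := hodd
    have h2 : g * g ∈ M := mul_self_mem_of_index_two hM g
    have h := M.pow_mem h2 (k + 1)
    rw [← sq, ← pow_mul, show 2 * (k + 1) = orderOf g + 1 by omega, pow_succ, pow_orderOf_eq_one,
      one_mul] at h
    exact h
  rw [hO, top_le_iff] at hle
  rw [hle, index_top] at hM
  norm_num at hM

variable {G : Type u} [Group G] [Fintype G] [DecidableEq G] {t : G}
  (φ : Subgroup.centralizer ({t} : Set G) ≃* Mat) (ht : orderOf t = 2)

include φ ht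

theorem isConj_of_residual (hO : Cfsg.pResidual 2 G = ⊤) {x : G} (hx : x * x = 1) (hx1 : x ≠ 1) :
    IsConj t x := by
  obtain ⟨S, A, hAS, hA8, hA4, hS⟩ := exists_sylow φ ht
  haveI : Fact (Nat.Prime 2) := ⟨Nat.prime_two⟩
  have hodd : Odd (S : Subgroup G).index := by
    rw [← Nat.not_even_iff_odd, even_iff_two_dvd]
    exact S.not_dvd_index
  have hrel : (Subgroup.zpowers A).relIndex (S : Subgroup G) = 2 := by
    have h := Subgroup.card_mul_index ((Subgroup.zpowers A).subgroupOf (S : Subgroup G))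
    rw [Nat.card_congr (Subgroup.subgroupOfEquivOfLe (Subgroup.zpowers_le.2 hAS)).toEquiv,
      Nat.card_zpowers, hA8, hS] at h
    show ((Subgroup.zpowers A).subgroupOf (S : Subgroup G)).index = 2
    omega
  rcases CfsgLib.ThompsonTransfer.thompson_transfer (S : Subgroup G) _ hodd hrel hx with
    ⟨M, -, hM2, -⟩ | ⟨g, hg⟩
  · exact (not_index_two hO hM2).elim
  · refine (isConj_iff.2 ⟨g, ?_⟩).symm
    have hy2 : (g * x * g⁻¹) ^ 2 = 1 := by rw [conj_pow, sq, hx, mul_one, mul_inv_cancel]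
    have hy1 : g * x * g⁻¹ ≠ 1 := fun e => hx1 (by rwa [conj_eq_one_iff] at e)
    obtain ⟨n, hn⟩ := (Submonoid.mem_powers_iff _ _).1 ((mem_powers_iff_mem_zpowers).2 hg)
    rw [← hn] at hy2 hy1 ⊢
    rw [← pow_mul, ← orderOf_dvd_iff_pow_eq_one, hA8] at hy2
    rw [ne_eq, ← orderOf_dvd_iff_pow_eq_one, hA8] at hy1
    rw [← hA4, ← pow_mod_orderOf A n, hA8]
    congr 1
    omega

omit [Fintype G] [DecidableEq G] ht in
theorem coe_pow_eq_one {c : Subgroup.centralizer ({t} : Set G)} {n : ℕ} (h : (φ c) ^ n = 1) :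
    (c : G) ^ n = 1 := by
  rw [← map_pow, ← map_one φ] at h
  exact congrArg Subtype.val (φ.injective h)

theorem isSimple_of_residual (hO : Cfsg.pResidual 2 G = ⊤) : IsSimpleGroup G := by
  haveI : Fact (Nat.Prime 2) := ⟨Nat.prime_two⟩
  haveI : Nontrivial G := ⟨⟨t, 1, fun e => by rw [e, orderOf_one] at ht; norm_num at ht⟩⟩
  obtain ⟨htt, ht1, hz⟩ := t_facts φ ht
  refine ⟨fun N hN => or_iff_not_imp_left.2 fun hNbot => ?_⟩
  -- the order of `N` is even
  have heven : 2 ∣ Nat.card N := by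
    by_contra hodd
    have hord : ∀ c ∈ N, c ∈ cen t → c ^ 3 = 1 := by
      intro c hc hct
      have h24 : c ^ 24 = 1 := coe_pow_eq_one φ (c := ⟨c, hct⟩) (pow_24 _)
      have hd : orderOf c ∣ Nat.card N := by
        rw [← Subgroup.orderOf_mk c hc]
        exact orderOf_dvd_natCard _
      have h2 : ¬ 2 ∣ orderOf c := fun h => hodd (h.trans hd)
      have h24' := orderOf_dvd_of_pow_eq_one h24
      rw [show (24 : ℕ) = 2 ^ 3 * 3 by norm_num] at h24'
      exact orderOf_dvd_iff_pow_eq_one.1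
        ((((Nat.prime_two.coprime_iff_not_dvd).2 h2).symm.pow_right 3).dvd_of_dvd_mul_left h24')
    have hfix : ∀ c ∈ N, c * t = t * c → c = 1 := by
      intro c hc hct
      by_contra hc1
      have hmap : φ ⟨c, mem_cen.2 hct⟩ ≠ 1 := fun e => hc1 (by
        rw [← map_one φ] at e; exact congrArg Subtype.val (φ.injective e))
      have h3 : (φ ⟨c, mem_cen.2 hct⟩) ^ 3 = 1 := by
        rw [← map_pow, ← map_one φ]
        exact congrArg φ (Subtype.ext (hord c hc (mem_cen.2 hct)))
      obtain ⟨g, hg⟩ := odd_normal _ h3 hmap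
      obtain ⟨d, rfl⟩ := φ.surjective g
      apply hg
      rw [← map_inv, ← map_mul, ← map_mul, ← map_mul, ← map_pow, ← map_one φ]
      refine congrArg φ (Subtype.ext ?_)
      exact hord _ (N.mul_mem hc (hN.conj_mem c hc d))
        (SetLike.coe_mem ((⟨c, mem_cen.2 hct⟩ : cen t) * (d * ⟨c, mem_cen.2 hct⟩ * d⁻¹)))
    have hinvAll : ∀ i : G, i * i = 1 → i ≠ 1 → ∀ c ∈ N, i * c * i⁻¹ = c⁻¹ := by
      intro i hi hi1
      refine inverts_of_fixed_point_free hi (fun c hc => hN.conj_mem c hc i) fun c hc hci => ?_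
      obtain ⟨g, hg⟩ := isConj_iff.1 (isConj_of_residual φ ht hO hi hi1).symm
      have h := hfix (g * c * g⁻¹) (hN.conj_mem c hc g) (by
        rw [← hg]
        calc g * c * g⁻¹ * (g * i * g⁻¹) = g * (c * i) * g⁻¹ := by group
          _ = g * (i * c) * g⁻¹ := by rw [hci]
          _ = g * i * g⁻¹ * (g * c * g⁻¹) := by group)
      exact conj_eq_one_iff.1 h
    apply hNbot
    rw [eq_bot_iff_forall]
    intro c hc
    obtain ⟨f1, -, f3, f4, f5, -, -, -⟩ := refl_facts
    set r : G := ((φ.symm refl : Subgroup.centralizer ({t} : Set G)) : G) with hr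
    have htz : φ.symm z = ⟨t, mem_cen.2 rfl⟩ := φ.symm_apply_eq.2 hz.symm
    have hrt : ((φ.symm (refl * z) : Subgroup.centralizer ({t} : Set G)) : G) = r * t := by
      rw [map_mul, htz, coe_mul]
    have hsq : ∀ X : Mat, X * X = 1 → ((φ.symm X : Subgroup.centralizer ({t} : Set G)) : G) *
        ((φ.symm X : Subgroup.centralizer ({t} : Set G)) : G) = 1 := fun X h => by
      rw [← coe_mul, ← map_mul, h, map_one, coe_one]
    have hne : ∀ X : Mat, X ≠ 1 → ((φ.symm X : Subgroup.centralizer ({t} : Set G)) : G) ≠ 1 :=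
      fun X h e => h ((map_eq_one_iff φ.symm φ.symm.injective).1 (Subtype.ext e))
    have h1 := hinvAll r (hsq _ f1) (hne _ f3) c hc
    have h2 := hinvAll (r * t) (hrt ▸ hsq _ f5) (hrt ▸ hne _ f4) c hc
    have htc := hinvAll t htt ht1 c hc
    have e : r * t * c * (r * t)⁻¹ = c := by
      calc r * t * c * (r * t)⁻¹ = r * (t * c * t⁻¹) * r⁻¹ := by group
        _ = (r * c * r⁻¹)⁻¹ := by rw [htc]; group
        _ = c := by rw [h1, inv_inv]
    rw [h2] at e
    by_contra hc1
    have hcc : c * c = 1 := by nth_rewrite 1 [← e]; exact inv_mul_cancel c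
    have ho : orderOf c = 2 := orderOf_eq_prime (by rw [sq, hcc]) hc1
    apply hodd
    rw [← ho, ← Subgroup.orderOf_mk c hc]
    exact orderOf_dvd_natCard _
  -- all involutions, hence the centralizer, lie in `N`
  obtain ⟨i0, hi0⟩ := exists_prime_orderOf_dvd_card' 2 heven
  rw [← Subgroup.orderOf_coe] at hi0
  have htN : t ∈ N := by
    obtain ⟨g, hg⟩ := isConj_iff.1 (isConj_of_residual φ ht hO (x := (i0 : G))
      (by rw [← sq, ← hi0, pow_orderOf_eq_one])
      (fun e => by rw [e, orderOf_one] at hi0; norm_num at hi0)).symm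
    exact hg ▸ hN.conj_mem _ i0.2 g
  have hinv : ∀ i : G, i * i = 1 → i ∈ N := by
    intro i hi
    rcases eq_or_ne i 1 with rfl | hi1
    · exact N.one_mem
    obtain ⟨g, hg⟩ := isConj_iff.1 (isConj_of_residual φ ht hO hi hi1)
    exact hg ▸ hN.conj_mem _ htN g
  have hCN : cen t ≤ N := by
    intro c hc
    obtain ⟨i, hi, j, hj, hk⟩ := three_invol (φ ⟨c, hc⟩)
    have hmem : ∀ X : Mat, X * X = 1 → ((φ.symm X : Subgroup.centralizer ({t} : Set G)) : G) ∈ N :=
      fun X h => hinv _ (by rw [← coe_mul, ← map_mul, h, map_one, coe_one])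
    have h := hmem _ hk
    rw [map_mul, map_mul, φ.symm_apply_apply, coe_mul, coe_mul] at h
    exact (N.mul_mem_cancel_left (N.mul_mem (hmem i hi) (hmem j hj))).1 h
  -- the Sylow normalizer centralizes `t`
  obtain ⟨S, A, hAS, hA8, hA4, hS⟩ := exists_sylow φ ht
  have hA8' : A ^ 8 = 1 := by rw [← hA8, pow_orderOf_eq_one]
  have hSC : (S : Subgroup G) ≤ cen t := by
    intro g hg
    have hn : ((zpowers A).subgroupOf (S : Subgroup G)).Normal := by
      apply normal_of_index_eq_two
      have h := Subgroup.card_mul_index ((Subgroup.zpowers A).subgroupOf (S : Subgroup G))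
      rw [Nat.card_congr (Subgroup.subgroupOfEquivOfLe (Subgroup.zpowers_le.2 hAS)).toEquiv,
        Nat.card_zpowers, hA8, hS] at h
      omega
    obtain ⟨k, hk⟩ := mem_subgroupOf.1
      (hn.conj_mem ⟨A, hAS⟩ (mem_subgroupOf.2 (mem_zpowers A)) ⟨g, hg⟩)
    simp only [coe_mul, coe_inv] at hk
    have e : g * t * g⁻¹ = t ^ k := by
      rw [← hA4, ← conj_pow, ← hk, ← zpow_natCast, ← zpow_mul, ← zpow_natCast, ← zpow_mul, mul_comm]
    rcases Int.emod_two_eq_zero_or_one k with h | h
    · obtain ⟨m, rfl⟩ := Int.dvd_of_emod_eq_zero h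
      rw [zpow_mul, zpow_ofNat, sq, htt, one_zpow] at e
      exact absurd (conj_eq_one_iff.1 e) ht1
    · obtain ⟨m, rfl⟩ : ∃ m, k = 2 * m + 1 := ⟨k / 2, by omega⟩
      rw [zpow_add, zpow_mul, zpow_ofNat, sq, htt, one_zpow, one_mul, zpow_one] at e
      rw [mem_cen]
      calc g * t = g * t * g⁻¹ * g := by group
        _ = t * g := by rw [e]
  have hNS : normalizer ((S : Subgroup G) : Set G) ≤ cen t := by
    intro g hg
    have hm : g * A * g⁻¹ ∈ cen t := hSC ((mem_normalizer_iff.1 hg A).1 hAS)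
    have h4 : (g * A * g⁻¹) ^ 4 = g * t * g⁻¹ := by rw [conj_pow, hA4]
    have hne1 : g * t * g⁻¹ ≠ 1 := fun e => ht1 (conj_eq_one_iff.1 e)
    have key := eight_root (φ ⟨_, hm⟩) (by
        rw [← map_pow, ← map_one φ]
        exact congrArg φ (Subtype.ext (by
          show (g * A * g⁻¹) ^ 8 = 1
          rw [conj_pow, hA8', mul_one, mul_inv_cancel])))
      (by
        rw [← map_pow, ← map_one φ]
        intro e
        exact hne1 (h4.symm.trans (congrArg Subtype.val (φ.injective e))))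
    rw [← map_pow, ← hz] at key
    have e : g * t * g⁻¹ = t := h4.symm.trans (congrArg Subtype.val (φ.injective key))
    rw [mem_cen]
    calc g * t = g * t * g⁻¹ * g := by group
      _ = t * g := by rw [e]
  -- Frattini
  let P : Sylow 2 N := S.subtype (hSC.trans hCN)
  have hP : (P : Subgroup N).map N.subtype = (S : Subgroup G) := by
    rw [Sylow.coe_subtype, subgroupOf_map_subtype, inf_eq_left.2 (hSC.trans hCN)]
  haveI := hN
  have htop := Sylow.normalizer_sup_eq_top P
  rw [hP] at htop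
  rw [← htop]
  exact (sup_eq_right.2 (hNS.trans hCN)).symm

end CfsgLib.GLTwoThree
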