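import Cfsg.Agent.GLTwoThree.Model
import Cfsg.Agent.CommGraph.L33

/-!
# An involution centralizer in `SL₃(3)`
-/

set_option autoImplicit false

namespace CfsgLib.GLTwoThree.Target

open Matrix CfsgLib.CommGraph.L33

/-- A matrix of determinant one with a block of size two. -/
def blk (x : Mat) : Matrix (Fin 3) (Fin 3) (ZMod 3) :=
  !![det x, 0, 0; 0, x.1.1, x.1.2.1; 0, x.1.2.2.1, x.1.2.2.2]

theorem det_blk (x : Mat) : (blk x).det = 1 := by
  have h := det_mul_self x
  simp only [det] at h
  rw [Matrix.det_fin_three]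
  simp [blk, det]
  linear_combination h

theorem blk_mul (x y : Mat) : blk (x * y) = blk x * blk y := by
  ext i j
  fin_cases i <;> fin_cases j <;>
    simp [blk, det, mul_def, Matrix.mul_apply, Fin.sum_univ_three] <;> ring

/-- The block embedding. -/
def emb (x : Mat) : M := ⟨blk x, det_blk x⟩

theorem emb_mul (x y : Mat) : emb (x * y) = emb x * emb y := Subtype.ext (blk_mul x y)

/-- The involution. -/
def t0 : M := emb ⟨(2, 0, 0, 2), by decide +kernel⟩

theorem emb_injective : ∀ x y : Mat, blk x = blk y → x = y := by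
  intro x y h
  refine Subtype.ext (Prod.ext ?_ (Prod.ext ?_ (Prod.ext ?_ ?_)))
  · exact congrFun (congrFun h 1) 1
  · exact congrFun (congrFun h 1) 2
  · exact congrFun (congrFun h 2) 1
  · exact congrFun (congrFun h 2) 2

theorem orderOf_t0 : orderOf t0 = 2 :=
  orderOf_eq_prime (p := 2) (Subtype.ext (by
    rw [sq]
    show blk ⟨(2, 0, 0, 2), by decide +kernel⟩ * blk ⟨(2, 0, 0, 2), by decide +kernel⟩ = 1
    decide +kernel)) (fun h => by
    have := congrArg (fun m : M => m.1 1 1) h
    revert this
    decide +kernel)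

theorem emb_comm : ∀ x : Mat, blk x * blk ⟨(2, 0, 0, 2), by decide +kernel⟩
    = blk ⟨(2, 0, 0, 2), by decide +kernel⟩ * blk x := by decide +kernel

theorem entry_zero : ∀ a : ZMod 3, 2 * a = a → a = 0 := by decide +kernel

theorem exists_emb {m : M} (h : m * t0 = t0 * m) : ∃ x : Mat, emb x = m := by
  have h' : m.1 * blk ⟨(2, 0, 0, 2), by decide +kernel⟩
      = blk ⟨(2, 0, 0, 2), by decide +kernel⟩ * m.1 := congrArg Subtype.val h
  have e := fun i j => congrFun (congrFun h' i) j
  have hd := m.2
  rw [Matrix.det_fin_three] at hd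
  have e01 : m.1 0 1 = 0 := by
    have := e 0 1
    simp [blk, det, Matrix.mul_apply, Fin.sum_univ_three] at this
    revert this
    generalize m.1 0 1 = a
    revert a
    decide +kernel
  have e02 : m.1 0 2 = 0 := by
    have := e 0 2
    simp [blk, det, Matrix.mul_apply, Fin.sum_univ_three] at this
    revert this
    generalize m.1 0 2 = a
    revert a
    decide +kernel
  have e10 : m.1 1 0 = 0 := by
    have := e 1 0
    simp [blk, det, Matrix.mul_apply, Fin.sum_univ_three] at this
    revert this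
    generalize m.1 1 0 = a
    revert a
    decide +kernel
  have e20 : m.1 2 0 = 0 := by
    have := e 2 0
    simp [blk, det, Matrix.mul_apply, Fin.sum_univ_three] at this
    revert this
    generalize m.1 2 0 = a
    revert a
    decide +kernel
  rw [e01, e02, e10, e20] at hd
  have hx : m.1 1 1 * m.1 2 2 - m.1 1 2 * m.1 2 1 ≠ 0 := by
    intro h0
    have : (0 : ZMod 3) = 1 := by linear_combination hd - m.1 0 0 * h0
    exact zero_ne_one this
  refine ⟨⟨(m.1 1 1, m.1 1 2, m.1 2 1, m.1 2 2), hx⟩, Subtype.ext ?_⟩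
  have hsq := det_mul_self ⟨(m.1 1 1, m.1 1 2, m.1 2 1, m.1 2 2), hx⟩
  have e00 : det ⟨(m.1 1 1, m.1 1 2, m.1 2 1, m.1 2 2), hx⟩ = m.1 0 0 := by
    simp only [det] at hsq ⊢
    linear_combination m.1 0 0 * hsq - (m.1 1 1 * m.1 2 2 - m.1 1 2 * m.1 2 1) * hd
  show blk _ = m.1
  ext i j
  fin_cases i <;> fin_cases j <;> simp [blk, e00, e01, e02, e10, e20]

/-- The centralizer of the involution. -/
theorem nonempty_centralizer_equiv :
    Nonempty (Subgroup.centralizer ({t0} : Set M) ≃* Mat) := by
  let f : Mat →* Subgroup.centralizer ({t0} : Set M) :=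
    MonoidHom.mk' (fun x => ⟨emb x, Subgroup.mem_centralizer_singleton_iff.2 (Subtype.ext (emb_comm x))⟩)
      fun x y => Subtype.ext (emb_mul x y)
  have hf : Function.Bijective f :=
    ⟨fun x y h => emb_injective x y (congrArg (fun c : Subgroup.centralizer ({t0} : Set M) => c.1.1) h),
      fun c => by
        obtain ⟨x, hx⟩ := exists_emb (Subgroup.mem_centralizer_singleton_iff.1 c.2)
        exact ⟨x, Subtype.ext hx⟩⟩
  exact ⟨(MulEquiv.ofBijective f hf).symm⟩

end CfsgLib.GLTwoThree.Target
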