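import Cfsg.Agent.GLTwoThree.L33.Index
import Cfsg.Agent.GLTwoThree.L33.Perm
import Mathlib.GroupTheory.Perm.Cycle.Type

/-!
# Simple groups of order 5616 with an involution centralizer `GL₂(3)` are isomorphic
-/

set_option autoImplicit false
set_option synthInstance.maxSize 4000

namespace CfsgLib.GLTwoThree

open Subgroup MulAction Thirteen

universe u

variable {G : Type u} [Group G] [Fintype G] [DecidableEq G] [IsSimpleGroup G] {t : G}
  (φ : Subgroup.centralizer ({t} : Set G) ≃* Mat) (ht : orderOf t = 2) (hG : Nat.card G = 5616)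

include φ ht hG

/-- Every element satisfies one of four exponents. -/
theorem element_orders (a : G) : a ^ 8 = 1 ∨ a ^ 6 = 1 ∨ a ^ 13 = 1 ∨ a ^ 27 = 1 := by
  set n := orderOf a with hn
  have hn0 : n ≠ 0 := (orderOf_pos a).ne'
  have hdvd : n ∣ 5616 := hG ▸ orderOf_dvd_natCard a
  by_cases h2 : 2 ∣ n
  · obtain ⟨m, hm⟩ := h2
    have hi : orderOf (a ^ m) = 2 := by
      rw [orderOf_pow_of_dvd (by omega) (by rw [← hn, hm]; exact Dvd.intro_left 2 rfl), ← hn, hm,
        Nat.mul_div_cancel _ (by omega)]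
    rcases order_eight_or_six φ ht (i := a ^ m) (x := a)
        (by rw [← sq, ← hi, pow_orderOf_eq_one])
        (fun e => by rw [e, orderOf_one] at hi; norm_num at hi)
        ((Commute.self_pow a m).eq) with h | h
    · exact Or.inl h
    · exact Or.inr (Or.inl h)
  · have h351 : n ∣ 351 := by
      rw [show (5616 : ℕ) = 16 * 351 by norm_num] at hdvd
      refine Nat.Coprime.dvd_of_dvd_mul_left ?_ hdvd
      rw [show (16 : ℕ) = 2 ^ 4 by norm_num]
      exact ((Nat.prime_two.coprime_iff_not_dvd).2 h2).symm.pow_right 4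
    by_cases h13 : 13 ∣ n
    · obtain ⟨m, hm⟩ := h13
      have hx : orderOf (a ^ m) = 13 := by
        rw [orderOf_pow_of_dvd (by omega) (by rw [← hn, hm]; exact Dvd.intro_left 13 rfl), ← hn, hm,
          Nat.mul_div_cancel _ (by omega)]
      have h := orderOf_dvd_natCard (⟨a, mem_cen.2 (Commute.self_pow a m).eq⟩ : cen (a ^ m))
      rw [(thirteen φ ht hG hx).1, Subgroup.orderOf_mk] at h
      exact Or.inr (Or.inr (Or.inl (orderOf_dvd_iff_pow_eq_one.1 h)))
    · refine Or.inr (Or.inr (Or.inr (orderOf_dvd_iff_pow_eq_one.1 ?_)))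
      rw [show (351 : ℕ) = 13 * 27 by norm_num] at h351
      exact Nat.Coprime.dvd_of_dvd_mul_left
        (((by norm_num : Nat.Prime 13).coprime_iff_not_dvd).2 h13).symm h351

/-- A standard embedding in the symmetric group of degree thirteen. -/
theorem exists_embedding : ∃ ι : G →* Equiv.Perm (ZMod 13),
    Function.Injective ι ∧ c0 ∈ ι.range ∧ y0 ∈ ι.range ∧ v0 ∈ ι.range := by
  classical
  haveI : Fact (Nat.Prime 13) := ⟨by norm_num⟩
  haveI : Fact (Nat.Prime 3) := ⟨by norm_num⟩
  obtain ⟨K, hK⟩ := exists_index_thirteen φ ht hG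
  have hKtop : K ≠ ⊤ := fun h => by rw [h, index_top] at hK; norm_num at hK
  have hKc : Nat.card K = 432 := by
    have := K.card_mul_index
    rw [hK, hG] at this
    omega
  obtain ⟨x, hx⟩ := exists_prime_orderOf_dvd_card' 13 (show 13 ∣ Nat.card G by rw [hG]; norm_num)
  have hx13 : x ^ 13 = 1 := by rw [← hx]; exact pow_orderOf_eq_one x
  obtain ⟨hcx, hNx⟩ := thirteen φ ht hG hx
  obtain ⟨g0, hg0⟩ := exists_prime_orderOf_dvd_card' 3
    (show 3 ∣ Nat.card (normalizer ((zpowers x : Subgroup G) : Set G)) by rw [hNx]; norm_num)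
  obtain ⟨y, hy3, hyx⟩ : ∃ y : G, orderOf y = 3 ∧ y * x * y⁻¹ = x ^ 3 := by
    set g := (g0 : G) with hg
    rw [← Subgroup.orderOf_coe, ← hg] at hg0
    have hg3 : g ^ 3 = 1 := by rw [← hg0, pow_orderOf_eq_one]
    have hm : g * x * g⁻¹ ∈ zpowers x := (mem_normalizer_iff.1 g0.2 x).1 (mem_zpowers x)
    obtain ⟨k', hk'⟩ := mem_powers_iff_mem_zpowers.2 hm
    simp only at hk'
    obtain ⟨k, hk, hgx⟩ : ∃ k < 13, g * x * g⁻¹ = x ^ k :=
      ⟨k' % 13, Nat.mod_lt _ (by norm_num), by rw [← hk', ← hx, pow_mod_orderOf]⟩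
    have hiter : ∀ m : ℕ, g ^ m * x * (g ^ m)⁻¹ = x ^ (k ^ m) := by
      intro m
      induction m with
      | zero => simp
      | succ m ih =>
        calc g ^ (m + 1) * x * (g ^ (m + 1))⁻¹ = g * (g ^ m * x * (g ^ m)⁻¹) * g⁻¹ := by
              rw [pow_succ']; group
          _ = (g * x * g⁻¹) ^ (k ^ m) := by rw [ih, conj_pow]
          _ = _ := by rw [hgx, ← pow_mul, ← pow_succ']
    have hk3 : x ^ (k ^ 3) = x ^ 1 := by rw [← hiter 3, hg3]; group
    have hmod : k ^ 3 ≡ 1 [MOD 13] := hx ▸ pow_eq_pow_iff_modEq.1 hk3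
    have hk1 : k ≠ 1 := by
      rintro rfl
      rw [pow_one] at hgx
      have h := orderOf_dvd_natCard (⟨g, mem_cen.2 (mul_inv_eq_iff_eq_mul.1 hgx)⟩ : cen x)
      rw [hcx, Subgroup.orderOf_mk, hg0] at h
      norm_num at h
    have : k = 3 ∨ k = 9 := by
      have key : ∀ k < 13, k ^ 3 % 13 = 1 → k ≠ 1 → k = 3 ∨ k = 9 := by decide
      exact key k hk hmod hk1
    rcases this with rfl | rfl
    · exact ⟨g, hg0, hgx⟩
    · refine ⟨g ^ 2, ?_, ?_⟩
      · rw [show g ^ 2 = g⁻¹ from (inv_eq_of_mul_eq_one_right (by rw [← pow_succ', hg3])).symm,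
          orderOf_inv, hg0]
      · rw [hiter 2, ← pow_mod_orderOf, hx]; norm_num
  have hy33 : y ^ 3 = 1 := by rw [← hy3, pow_orderOf_eq_one]
  have hy1 : y ≠ 1 := fun e => by rw [e, orderOf_one] at hy3; norm_num at hy3
  have hcardΩ : Nat.card (G ⧸ K) = 13 := by rw [← index_eq_card, hK]
  haveI := Fintype.ofFinite (G ⧸ K)
  -- `x` fixes no point
  have hxfix : ∀ (ω : G ⧸ K) (m : ℕ), ¬ 13 ∣ m → x ^ m • ω ≠ ω := by
    intro ω m hm he
    obtain ⟨c, rfl⟩ := QuotientGroup.mk_surjective ω
    have h1 : c⁻¹ * (x ^ m * c) ∈ K := QuotientGroup.eq.1 he.symm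
    have h2 := orderOf_dvd_natCard (⟨_, h1⟩ : K)
    rw [hKc, Subgroup.orderOf_mk] at h2
    have h3 : orderOf (c⁻¹ * (x ^ m * c)) = 13 := by
      rw [show c⁻¹ * (x ^ m * c) = MulAut.conj c⁻¹ (x ^ m) by simp [mul_assoc], MulEquiv.orderOf_eq,
        orderOf_pow, hx, Nat.Coprime.gcd_eq_one
          ((Nat.Prime.coprime_iff_not_dvd (by norm_num)).2 hm), Nat.div_one]
    rw [h3] at h2
    norm_num at h2
  obtain ⟨b, hb⟩ : ∃ b : G ⧸ K, y • b = b := by
    by_contra h
    push Not at h
    have h2 := Equiv.Perm.card_compl_support_modEq (p := 3) (n := 1)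
      (σ := MulAction.toPermHom G (G ⧸ K) y)
      (by rw [pow_one, ← map_pow, hy33, map_one])
    have he : ((MulAction.toPermHom G (G ⧸ K) y).support)ᶜ = (∅ : Finset _) := by
      ext W
      simp only [Finset.mem_compl, Equiv.Perm.mem_support, not_not, Finset.notMem_empty, iff_false]
      exact h W
    rw [he, Finset.card_empty, ← Nat.card_eq_fintype_card, hcardΩ] at h2
    simp [Nat.ModEq] at h2
  -- the labelling
  let f : ZMod 13 → G ⧸ K := fun i => x ^ i.val • b
  have hpow : ∀ {m m' : ℕ}, (m : ZMod 13) = (m' : ZMod 13) → x ^ m = x ^ m' := fun {m m'} h =>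
    pow_eq_pow_iff_modEq.2 (by rw [hx]; exact (ZMod.natCast_eq_natCast_iff _ _ _).1 h)
  have hf : Function.Injective f := by
    intro i j h
    by_contra hne
    refine hxfix b ((i - j).val) ?_ ?_
    · intro hd
      refine hne (sub_eq_zero.1 ?_)
      rw [← ZMod.natCast_zmod_val (i - j)]
      exact (ZMod.natCast_eq_zero_iff _ _).2 hd
    · refine smul_left_cancel (x ^ j.val) ?_
      rw [smul_smul, ← pow_add]
      rw [hpow (m := j.val + (i - j).val) (m' := i.val) (by push_cast [ZMod.natCast_zmod_val]; ring)]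
      exact h
  have hbij : Function.Bijective f := (Fintype.bijective_iff_injective_and_card f).2 ⟨hf, by
    rw [← Nat.card_eq_fintype_card, ← Nat.card_eq_fintype_card, hcardΩ, Nat.card_zmod]⟩
  let e := Equiv.ofBijective f hbij
  have hinj0 : Function.Injective (MulAction.toPermHom G (G ⧸ K)) := by
    rw [← MonoidHom.ker_eq_bot_iff, ← normalCore_eq_ker]
    exact (IsSimpleGroup.eq_bot_or_eq_top_of_normal K.normalCore inferInstance).resolve_right
      fun e => hKtop (top_unique (e ▸ normalCore_le K))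
  let ι : G →* Equiv.Perm (ZMod 13) :=
    e.symm.permCongrHom.toMonoidHom.comp (MulAction.toPermHom G (G ⧸ K))
  have hinj : Function.Injective ι := e.symm.permCongrHom.injective.comp hinj0
  have hι : ∀ (a : G) (i j : ZMod 13), a • f i = f j → ι a i = j := fun a i j h => by
    change e.symm (a • e i) = j
    rw [Equiv.symm_apply_eq]
    exact h
  have hιx : ι x = c0 := Equiv.ext fun i => hι x i _ (by
    change x • (x ^ i.val • b) = x ^ (i + 1).val • b
    rw [smul_smul, ← pow_succ']
    congr 1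
    exact hpow (by push_cast [ZMod.natCast_zmod_val]; ring))
  have hyconj : ∀ m : ℕ, y * x ^ m = x ^ (3 * m) * y := fun m => by
    rw [pow_mul, ← hyx, conj_pow, inv_mul_cancel_right]
  have hιy : ι y = y0 := Equiv.ext fun i => hι y i _ (by
    change y • (x ^ i.val • b) = x ^ (3 * i).val • b
    rw [smul_smul, hyconj, mul_smul, hb]
    congr 1
    exact hpow (by push_cast [ZMod.natCast_zmod_val]; ring))
  -- an involution inverting `y`
  obtain ⟨v, hvv, hv1, hv⟩ := exists_inverting φ ht hG hy33 hy1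
  have hv3 : ∀ i, ι v (3 * i) = 9 * ι v i := fun i => by
    have h : ι v * ι y = (ι y)⁻¹ * ι v := by
      rw [← map_inv, ← map_mul, ← map_mul, ← hv, inv_mul_cancel_right]
    rw [hιy] at h
    exact Equiv.Perm.ext_iff.1 h i
  have hv0 : ι v 0 = 0 := by
    have h := hv3 0
    rw [mul_zero] at h
    have h2 : (8 : ZMod 13) * ι v 0 = 0 := by linear_combination -h
    exact (mul_eq_zero.1 h2).resolve_left fun h8 =>
      (show ¬ ((8 : Fin 13) = 0) by decide) h8
  have hvf : ⇑(ι v) = vfun (ι v 1) (ι v 2) (ι v 4) (ι v 7) := eq_vfun hv0 hv3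
  have hcls := classified_all
  simp only [List.all_eq_true] at hcls
  have hc := hcls (ι v 1) (mem_univList _) (ι v 2) (mem_univList _) (ι v 4) (mem_univList _)
    (ι v 7) (mem_univList _)
  simp only [classified, Bool.or_eq_true, List.any_eq_true, Bool.and_eq_true, bne_iff_ne,
    beq_iff_eq, List.all_eq_true, Bool.not_eq_true'] at hc
  rcases hc with ((⟨i, -, hne⟩ | ⟨m, -, m', -, hmm, hm⟩) | hid) | ⟨i, -, hord⟩
  · exfalso
    rw [← hvf, ← Equiv.Perm.mul_apply, ← map_mul, hvv, map_one] at hne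
    exact hne rfl
  · let σ : Equiv.Perm (ZMod 13) := ⟨fun i => m * i, fun i => m' * i,
      fun i => by simp only [← mul_assoc, mul_comm m' m, hmm, one_mul],
      fun i => by simp only [← mul_assoc, hmm, one_mul]⟩
    let ι' : G →* Equiv.Perm (ZMod 13) := (MulAut.conj σ).toMonoidHom.comp ι
    have hι' : ∀ a i, ι' a i = m * ι a (m' * i) := fun a i => rfl
    refine ⟨ι', (MulAut.conj σ).injective.comp hinj, ⟨x ^ m'.val, ?_⟩, ⟨y, ?_⟩, ⟨v, ?_⟩⟩
    · refine Equiv.ext fun i => ?_
      rw [hι', map_pow, hιx, c0_pow, ZMod.natCast_zmod_val]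
      change m * (m' * i + m') = i + 1
      linear_combination (i + 1) * hmm
    · refine Equiv.ext fun i => ?_
      rw [hι', hιy]
      change m * (3 * (m' * i)) = 3 * i
      linear_combination 3 * i * hmm
    · refine Equiv.ext fun i => ?_
      rw [hι', hvf]
      exact hm i (mem_univList i)
  · exfalso
    refine hv1 (hinj ?_)
    rw [map_one]
    refine Equiv.ext fun i => ?_
    rw [hvf]
    exact hid i (mem_univList i)
  · exfalso
    have h := goodOrd_of_pow (p := ι (x ^ i.val * v))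
      (f := fun z => vfun (ι v 1) (ι v 2) (ι v 4) (ι v 7) z + i) (fun z => by
        rw [map_mul, map_pow, hιx, Equiv.Perm.mul_apply, c0_pow, ZMod.natCast_zmod_val]
        exact congrArg (· + i) (congrFun hvf z)) (by
        simpa only [map_pow, map_one] using
          (element_orders φ ht hG (x ^ i.val * v)).imp (congrArg ι)
            (Or.imp (congrArg ι) (Or.imp (congrArg ι) (congrArg ι))))
    rw [h] at hord
    exact Bool.noConfusion hord

/-- The standard group is the image. -/
theorem nonempty_equiv_stdGroup : Nonempty (G ≃* stdGroup) := by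
  haveI : Fact (Nat.Prime 13) := ⟨by norm_num⟩
  obtain ⟨ι, hinj, ⟨x, hx⟩, ⟨y, hy⟩, ⟨v, hv⟩⟩ := exists_embedding φ ht hG
  set L := stdGroup.comap ι with hL
  have hle : stdGroup ≤ ι.range := (closure_le _).2 (by
    rintro s (rfl | rfl | rfl)
    exacts [⟨x, hx⟩, ⟨y, hy⟩, ⟨v, hv⟩])
  suffices h : L = ⊤ by
    have he : ι.range = stdGroup := le_antisymm (by
      rintro _ ⟨a, rfl⟩
      exact mem_comap.1 (h ▸ mem_top a : a ∈ L)) hle
    exact ⟨(MonoidHom.ofInjective hinj).trans (MulEquiv.subgroupCongr he)⟩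
  by_contra hne
  have hxL : x ∈ L := mem_comap.2 (hx ▸ subset_closure (Set.mem_insert _ _))
  have hyL : y ∈ L := mem_comap.2
    (hy ▸ subset_closure (Set.mem_insert_of_mem _ (Set.mem_insert _ _)))
  have hvL : v ∈ L := mem_comap.2
    (hv ▸ subset_closure (Set.mem_insert_of_mem _ (Set.mem_insert_of_mem _ rfl)))
  have hord : ∀ {a : G} {p : Equiv.Perm (ZMod 13)}, ι a = p → a ∈ L →
      orderOf p ∣ Nat.card L := fun {a p} h ha => by
    have := orderOf_dvd_natCard (⟨a, ha⟩ : L)
    rwa [Subgroup.orderOf_mk, ← orderOf_injective ι hinj, h] at this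
  have h13 : 13 ∣ Nat.card L := orderOf_c0 ▸ hord hx hxL
  have h3 : 3 ∣ Nat.card L := orderOf_y0 ▸ hord hy hyL
  have h8 : 8 ∣ Nat.card L := by
    have key : ∀ n : ℕ, ι (x ^ n * v) = c0 ^ n * v0 := fun n => by rw [map_mul, map_pow, hx, hv]
    have hm : ∀ n : ℕ, x ^ n * v ∈ L := fun n => L.mul_mem (L.pow_mem hxL n) hvL
    rcases orderOf_eight with h | h | h | h | h <;> rw [← h]
    · have := hord (key 1) (hm 1); rwa [pow_one] at this
    · exact hord (key 2) (hm 2)
    · exact hord (key 3) (hm 3)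
    · exact hord (key 4) (hm 4)
    · exact hord (key 5) (hm 5)
  obtain ⟨c, hc⟩ : 312 ∣ Nat.card L :=
    Nat.Coprime.mul_dvd_of_dvd_of_dvd (by norm_num : Nat.Coprime 24 13)
      (Nat.Coprime.mul_dvd_of_dvd_of_dvd (by norm_num : Nat.Coprime 8 3) h8 h3) h13
  have hmul := L.index_mul_card
  rw [hG, hc] at hmul
  have hfac := card_dvd_factorial_index hne
  rw [hG] at hfac
  have hidx : 13 ≤ L.index := by
    have h := (Nat.Prime.dvd_factorial (by norm_num : Nat.Prime 13)).1
      (dvd_trans (by norm_num : 13 ∣ 5616) hfac)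
    exact h
  have hc1 : c = 1 := by
    have hc18 : L.index * c = 18 := by
      have : 312 * (L.index * c) = 312 * 18 := by linarith
      exact Nat.eq_of_mul_eq_mul_left (by norm_num) this
    rcases Nat.eq_zero_or_pos c with rfl | hpos
    · simp at hc18
    · by_contra hne1
      have : 2 ≤ c := by omega
      have := Nat.mul_le_mul hidx this
      omega
  rw [hc1, mul_one] at hc
  -- the subgroup of order thirteen is normal in `L`
  have hox : orderOf x = 13 := by rw [← orderOf_injective ι hinj, hx, orderOf_c0]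
  let P : Sylow 13 L := Sylow.ofCard (zpowers (⟨x, hxL⟩ : L)) (by
    rw [Nat.card_zpowers, Subgroup.orderOf_mk, hox, hc, show (312 : ℕ) = 13 * 24 by norm_num,
      Nat.factorization_mul (by norm_num) (by norm_num), Finsupp.add_apply,
      Nat.Prime.factorization_self (by norm_num),
      Nat.factorization_eq_zero_of_not_dvd (show ¬ 13 ∣ 24 by norm_num)]
    norm_num)
  have hone : Nat.card (Sylow 13 L) = 1 := by
    have h1 : Nat.card (Sylow 13 L) ∣ 24 := by
      have := P.card_dvd_index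
      have hi := (P : Subgroup L).index_mul_card
      rw [show Nat.card (P : Subgroup L) = 13 from by
        rw [show (P : Subgroup L) = zpowers (⟨x, hxL⟩ : L) from rfl, Nat.card_zpowers,
          Subgroup.orderOf_mk, hox], hc] at hi
      rwa [show (P : Subgroup L).index = 24 by omega] at this
    have hmem : Nat.card (Sylow 13 L) ∈ Nat.divisors 24 := Nat.mem_divisors.2 ⟨h1, by norm_num⟩
    have key : ∀ n ∈ Nat.divisors 24, n % 13 = 1 → n = 1 := by decide
    exact key _ hmem (card_sylow_modEq_one 13 L)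
  have hLN : L ≤ normalizer ((zpowers x : Subgroup G) : Set G) := by
    haveI : Subsingleton (Sylow 13 L) := (Nat.card_eq_one_iff_unique.1 hone).1
    intro a ha
    refine mem_normalizer_of_conj_le fun z hz => ?_
    obtain ⟨k, rfl⟩ := hz
    simp only
    have hn : (P : Subgroup L).Normal := inferInstance
    obtain ⟨j, hj⟩ := hn.conj_mem (⟨x, hxL⟩ ^ k) (zpow_mem (mem_zpowers _) k) ⟨a, ha⟩
    refine ⟨j, ?_⟩
    have := congrArg Subtype.val hj
    simpa using this
  have := Subgroup.card_dvd_of_le hLN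
  rw [(thirteen φ ht hG hox).2, hc] at this
  norm_num at this

end CfsgLib.GLTwoThree
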